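import Groth.Agent.Comod33.IdentityComp
import Groth.Agent.Comod33.Infinitesimal
import Groth.Agent.Comod33.FiniteGroup
import Groth.Agent.Hopf34.DualSep
import Mathlib.RingTheory.HopfAlgebra.GroupLike

/-!
Group-like elements of finite Hopf algebras over fields: Hopf ideals cut out by them, existence from points of
the dual algebra, order `p` powers in local Hopf algebras of characteristic `p`.
-/

universe u v

open TensorProduct

noncomputable section

namespace Groth.Agent.FinHopf34

variable {k : Type u} [Field k] {A : Type v} [CommRing A] [HopfAlgebra k A]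

theorem isHopfIdeal_span_sub_one {g : A} (hg : IsGroupLikeElem k g) :
    (Ideal.span ({g - 1} : Set A)).IsHopfIdeal k := by
  have hmem : g - 1 ∈ Ideal.span ({g - 1} : Set A) := Ideal.mem_span_singleton_self _
  refine Comod33.IdComp.isHopfIdeal_span _ ?_ ?_ ?_
  · rintro x rfl
    rw [map_sub, hg.counit_eq_one, Bialgebra.counit_one, sub_self]
  · rintro x rfl
    have h1 : Ideal.Quotient.mkₐ k (Ideal.span ({g - 1} : Set A)) g = 1 := by
      rw [← map_one (Ideal.Quotient.mkₐ k (Ideal.span ({g - 1} : Set A)))]
      exact Ideal.Quotient.eq.2 hmem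
    rw [map_sub, hg.comul_eq_tmul_self, Bialgebra.comul_one, map_sub, Algebra.TensorProduct.map_tmul, map_one, h1,
      Algebra.TensorProduct.one_def, sub_self]
  · rintro x rfl
    have h2 : HopfAlgebraStruct.antipode (R := k) (g - 1) =
        -(HopfAlgebraStruct.antipode (R := k) g) * (g - 1) := by
      rw [map_sub, HopfAlgebra.antipode_one]
      linear_combination hg.antipode_mul_cancel
    rw [h2]
    exact Ideal.mul_mem_left _ _ hmem

variable [Module.Finite k A]

/-- If the dual algebra is reduced and `A` is not the base field, `A` has a non-trivial group-like element. -/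
theorem exists_groupLike_ne_one [IsAlgClosed k] [Coalgebra.IsCocomm k A] [IsReduced (CartDual.D k A)]
    (hA : 1 < Module.finrank k A) : ∃ g : A, IsGroupLikeElem k g ∧ g ≠ 1 := by
  classical
  haveI : Finite (CartDual.D k A →ₐ[k] k) := Comod33.FinGrp.finite_points
  haveI := Fintype.ofFinite (CartDual.D k A →ₐ[k] k)
  have hev : Function.Injective fun y : CartDual.D k A => fun φ : CartDual.D k A →ₐ[k] k => φ y := fun a b h =>
    sub_eq_zero.1 (Comod33.FinGrp.isNilpotent_of_forall (k := k) fun γ => by
      rw [map_sub, show γ a = γ b from congrFun h γ, sub_self]).eq_zero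
  have hcard : 1 < Fintype.card (CartDual.D k A →ₐ[k] k) := by
    have h := LinearMap.finrank_le_finrank_of_injective
      (f := LinearMap.pi (fun φ : CartDual.D k A →ₐ[k] k => φ.toLinearMap)) hev
    rw [Module.finrank_pi, (CartDual.toDual k A).finrank_eq, Subspace.dual_finrank_eq] at h
    omega
  have key : ∀ φ : CartDual.D k A →ₐ[k] k, ∃ g : A, IsGroupLikeElem k g ∧
      ∀ x : CartDual.D k A, φ x = x.ofConv g := by
    intro φ
    obtain ⟨g, hg, -⟩ := Hopf34.existsUnique_eval (R := k) (E := A) φ.toLinearMap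
    have hg' : ∀ x : CartDual.D k A, φ x = x.ofConv g := fun x => hg x.ofConv
    refine ⟨g, ⟨?_, ?_⟩, hg'⟩
    · have h := (hg' 1).symm.trans (map_one φ)
      simpa [LinearMap.convOne_def] using h
    · refine Hopf34.ext_dualPair fun x y => ?_
      have h := map_mul φ (WithConv.toConv x) (WithConv.toConv y)
      rw [hg', hg', hg', LinearMap.convMul_apply] at h
      simp only [TensorProduct.map_tmul, LinearMap.mul'_apply]
      exact h
  obtain ⟨φ, ψ, hne⟩ := Fintype.exists_pair_of_one_lt_card hcard
  obtain ⟨g, hg, hgφ⟩ := key φ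
  obtain ⟨g', hg', hgψ⟩ := key ψ
  by_cases h : g = 1
  · refine ⟨g', hg', fun h' => hne (AlgHom.ext fun x => ?_)⟩
    rw [hgφ, hgψ, h, h']
  · exact ⟨g, hg, h⟩

/-- In a finite local Hopf algebra of characteristic `p`, a power of a non-trivial group-like has order `p`. -/
theorem exists_groupLike_pow_eq_one (p : ℕ) [Fact p.Prime] [CharP k p] [IsLocalRing A] {g : A}
    (hg : IsGroupLikeElem k g) (h1 : g ≠ 1) : ∃ g' : A, IsGroupLikeElem k g' ∧ g' ≠ 1 ∧ g' ^ p = 1 := by
  classical
  haveI : CharP A p := charP_of_injective_algebraMap (algebraMap k A).injective p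
  obtain ⟨N, hN⟩ := Comod33.Infinitesimal.isNilpotent_aug (k := k) (A := A)
  have hm : g - 1 ∈ Comod33.Aug.aug k A := by
    rw [RingHom.mem_ker, map_sub, map_one, Bialgebra.counitAlgHom_apply, hg.counit_eq_one, sub_self]
  have hex : ∃ m, g ^ p ^ m = 1 := by
    refine ⟨N, sub_eq_zero.1 ?_⟩
    rw [← one_pow (p ^ N), ← sub_pow_char_pow]
    refine pow_eq_zero_of_le ((Nat.lt_pow_self (Fact.out : p.Prime).one_lt).le) ?_
    have := Ideal.pow_mem_pow hm N
    rwa [hN] at this
  have h0 : Nat.find hex ≠ 0 := fun h => h1 (by have := Nat.find_spec hex; rwa [h, pow_zero, pow_one] at this)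
  refine ⟨g ^ p ^ (Nat.find hex - 1), hg.pow, Nat.find_min hex (by omega), ?_⟩
  rw [← pow_mul, ← pow_succ, Nat.sub_add_cancel (Nat.pos_of_ne_zero h0)]
  exact Nat.find_spec hex

/-- A non-trivial group-like of order dividing a prime has linearly independent powers. -/
theorem linearIndependent_pow {g : A} (hg : IsGroupLikeElem k g) (h1 : g ≠ 1) {p : ℕ} (hp : p.Prime)
    (hgp : g ^ p = 1) : LinearIndependent k (fun i : Fin p => g ^ (i : ℕ)) := by
  haveI := Fact.mk hp
  have hord : orderOf g = p := orderOf_eq_prime hgp h1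
  let f : Fin p → GroupLike k A := fun i => ⟨g, hg⟩ ^ (i : ℕ)
  have hf : Function.Injective f := fun i j h => Fin.ext
    (pow_injOn_Iio_orderOf (x := g) (Set.mem_Iio.2 (hord.symm ▸ i.2)) (Set.mem_Iio.2 (hord.symm ▸ j.2))
      (congrArg GroupLike.val h))
  exact (linearIndep_groupLikeVal (R := k) (A := A)).comp f hf

end Groth.Agent.FinHopf34
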