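import Groth.Agent.Comod33.IdentityComp
import Groth.Agent.Comod33.Infinitesimal
import Groth.Agent.Hopf34.DualSep

/-!
Primitive elements of finite local Hopf algebras in characteristic `p`; order of a height one infinitesimal group.
-/

universe u v

open TensorProduct

noncomputable section

namespace Groth.Agent.FinHopf34

open Groth.Agent.Comod33 Groth.Agent.Comod33.Aug Groth.Agent.Comod33.Infinitesimal

variable {k : Type u} [Field k] {A : Type v} [CommRing A] [HopfAlgebra k A]

theorem isLocalRing_of_nil [Nontrivial A] (h : ∀ f : A, Bialgebra.counitAlgHom k A f = 0 → IsNilpotent f) :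
    IsLocalRing A := by
  refine IsLocalRing.of_nonunits_add fun a b ha hb => ?_
  have key : ∀ a : A, a ∈ nonunits A → Bialgebra.counitAlgHom k A a = 0 := by
    intro a ha
    by_contra h'
    exact ha (by
      have := (h (a - algebraMap k A (Bialgebra.counitAlgHom k A a)) (by simp)).isUnit_add_right_of_commute
        ((Ne.isUnit h').map (algebraMap k A)) (Commute.all _ _)
      simpa using this)
  intro hu
  have := hu.map (Bialgebra.counitAlgHom k A)
  rw [map_add, key a ha, key b hb, add_zero] at this
  exact not_isUnit_zero this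

theorem finrank_eq_pow_cotangent (p : ℕ) [Fact p.Prime] [CharP k p] [Module.Finite k A]
    (h1 : ∀ f : A, Bialgebra.counitAlgHom k A f = 0 → f ^ p = 0) :
    Module.finrank k A = p ^ Module.finrank k (aug k A).Cotangent := by
  haveI : Nontrivial A := Bialgebra.nontrivial (R := k) (A := A)
  haveI : IsLocalRing A := isLocalRing_of_nil fun f hf => ⟨p, h1 f hf⟩
  have hJ : Ideal.span ((fun a : A => a ^ p) '' (aug k A : Set A)) = ⊥ := by
    rw [Ideal.span_eq_bot]
    rintro _ ⟨a, ha, rfl⟩
    exact h1 a ha
  obtain ⟨e⟩ := nonempty_algEquiv_frobeniusKernel (k := k) (A := A) p _ rfl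
  let e' := ((AlgEquiv.quotientBot k A).symm.trans (Ideal.quotientEquivAlgOfEq k hJ.symm)).trans e
  rw [e'.toLinearEquiv.finrank_eq, TruncPoly.finrank_quotient, Finset.prod_const, Finset.card_univ, Fintype.card_fin]

/-- `x` is primitive -/
abbrev IsPrim (k : Type u) [Field k] {A : Type v} [CommRing A] [HopfAlgebra k A] (x : A) : Prop :=
  CoalgebraStruct.comul (R := k) x = x ⊗ₜ[k] (1 : A) + (1 : A) ⊗ₜ[k] x

theorem IsPrim.counit_eq_zero {x : A} (hx : IsPrim k x) : CoalgebraStruct.counit (R := k) x = 0 := by
  have h := congrArg ((TensorProduct.rid k A).toLinearMap ∘ₗ (CoalgebraStruct.counit (R := k) (A := A)).lTensor A) hx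
  simp only [LinearMap.comp_apply, Coalgebra.lTensor_counit_comul, LinearEquiv.coe_coe, TensorProduct.rid_tmul,
    map_add, LinearMap.lTensor_tmul, Bialgebra.counit_one, one_smul, left_eq_add] at h
  have := congrArg (CoalgebraStruct.counit (R := k) (A := A)) h
  simpa using this

theorem IsPrim.antipode_eq {x : A} (hx : IsPrim k x) : HopfAlgebraStruct.antipode (R := k) x = -x := by
  have h := HopfAlgebra.mul_antipode_rTensor_comul_apply (R := k) x
  rw [hx, hx.counit_eq_zero, map_zero] at h
  simp [HopfAlgebra.antipode_one] at h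
  exact eq_neg_of_add_eq_zero_left h

theorem IsPrim.pow_char_pow {x : A} (hx : IsPrim k x) (p : ℕ) [Fact p.Prime] [CharP k p] (n : ℕ) :
    IsPrim k (x ^ p ^ n) := by
  haveI : Nontrivial A := Bialgebra.nontrivial (R := k) (A := A)
  haveI : Nontrivial (A ⊗[k] A) := RingHom.domain_nontrivial
    (Algebra.TensorProduct.map (Bialgebra.counitAlgHom k A) (Bialgebra.counitAlgHom k A)).toRingHom
  haveI : CharP (A ⊗[k] A) p := charP_of_injective_algebraMap (algebraMap k (A ⊗[k] A)).injective p
  show CoalgebraStruct.comul (R := k) (x ^ p ^ n) = _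
  rw [Bialgebra.comul_pow, hx, add_pow_char_pow, Algebra.TensorProduct.tmul_pow, Algebra.TensorProduct.tmul_pow,
    one_pow]

theorem isHopfIdeal_span_prim {x : A} (hx : IsPrim k x) : (Ideal.span ({x} : Set A)).IsHopfIdeal k := by
  refine IdComp.isHopfIdeal_span _ ?_ ?_ ?_
  · rintro y rfl
    exact hx.counit_eq_zero
  · rintro y rfl
    have h0 : Ideal.Quotient.mkₐ k (Ideal.span ({y} : Set A)) y = 0 :=
      Ideal.Quotient.eq_zero_iff_mem.2 (Ideal.mem_span_singleton_self _)
    rw [hx, map_add, Algebra.TensorProduct.map_tmul, Algebra.TensorProduct.map_tmul, h0, zero_tmul, tmul_zero,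
      add_zero]
  · rintro y rfl
    rw [hx.antipode_eq]
    exact (Ideal.span ({y} : Set A)).neg_mem (Ideal.mem_span_singleton_self y)

theorem IsPrim.exists_pow_char_eq_zero [Module.Finite k A] [IsLocalRing A] (p : ℕ) [Fact p.Prime] [CharP k p]
    {x : A} (hx : IsPrim k x) (h0 : x ≠ 0) : ∃ t : A, IsPrim k t ∧ t ≠ 0 ∧ t ^ p = 0 := by
  classical
  obtain ⟨N, hN⟩ := isNilpotent_aug (k := k) (A := A)
  have hex : ∃ m, x ^ p ^ m = 0 := by
    refine ⟨N, pow_eq_zero_of_le (Nat.lt_pow_self (Fact.out : p.Prime).one_lt).le ?_⟩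
    have := Ideal.pow_mem_pow (mem_aug_iff.2 hx.counit_eq_zero) N
    rwa [hN] at this
  have hne : Nat.find hex ≠ 0 := fun h => h0 (by have := Nat.find_spec hex; rwa [h, pow_zero, pow_one] at this)
  refine ⟨x ^ p ^ (Nat.find hex - 1), hx.pow_char_pow p _, Nat.find_min hex (by omega), ?_⟩
  rw [← pow_mul, ← pow_succ, Nat.sub_add_cancel (Nat.pos_of_ne_zero hne)]
  exact Nat.find_spec hex

/-- The first `p` powers of a non-zero primitive element are linearly independent in characteristic `p`. -/
theorem IsPrim.linearIndependent_pow {t : A} (ht : IsPrim k t) (h0 : t ≠ 0) (p : ℕ) [Fact p.Prime] [CharP k p] :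
    LinearIndependent k (fun i : Fin p => t ^ (i : ℕ)) := by
  haveI : Nontrivial A := Bialgebra.nontrivial (R := k) (A := A)
  suffices ∀ m, m ≤ p → LinearIndependent k (fun i : Fin m => t ^ (i : ℕ)) from this p le_rfl
  intro m
  induction m with
  | zero => exact fun _ => linearIndependent_empty_type
  | succ m ih =>
    intro hm
    have hli := ih (by omega)
    rw [linearIndependent_finSucc']
    refine ⟨hli, fun hmem => ?_⟩
    simp only [Fin.val_last] at hmem
    rcases m with _ | _ | m
    · rw [Set.range_eq_empty, Submodule.span_empty, Submodule.mem_bot, pow_zero] at hmem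
      exact one_ne_zero hmem
    · have hle : Submodule.span k (Set.range (Fin.init fun i : Fin (0 + 1 + 1) => t ^ (i : ℕ))) ≤
          Submodule.span k ({1} : Set A) :=
        Submodule.span_mono (by rintro _ ⟨i, rfl⟩; simp [Fin.init])
      obtain ⟨c, hc⟩ := Submodule.mem_span_singleton.1 (hle hmem)
      rw [zero_add, pow_one] at hc
      have h := congrArg (CoalgebraStruct.counit (R := k) (A := A)) hc
      simp [ht.counit_eq_zero] at h
      rw [h, zero_smul] at hc
      exact h0 hc.symm
    · obtain ⟨L, hL⟩ := LinearMap.exists_leftInverse_of_injective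
        (Fintype.linearCombination k fun i : Fin (m + 2) => t ^ (i : ℕ))
        (LinearMap.ker_eq_bot.2 hli.fintypeLinearCombination_injective)
      let ξ : A →ₗ[k] k := LinearMap.proj (⟨1, by omega⟩ : Fin (m + 2)) ∘ₗ L
      let η : A →ₗ[k] k := LinearMap.proj (⟨m + 1, by omega⟩ : Fin (m + 2)) ∘ₗ L
      have hval : ∀ i : Fin (m + 2), L (t ^ (i : ℕ)) = Pi.single i 1 := fun i => by
        have := LinearMap.congr_fun hL (Pi.single i 1)
        simpa [Fintype.linearCombination_apply_single] using this
      have hξ : ∀ i, i < m + 2 → ξ (t ^ i) = if i = 1 then 1 else 0 := fun i hi => by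
        show L (t ^ ((⟨i, hi⟩ : Fin (m + 2)) : ℕ)) _ = _
        rw [hval, Pi.single_apply]
        simp [Fin.ext_iff, eq_comm]
      have hη : ∀ i, i < m + 2 → η (t ^ i) = if i = m + 1 then 1 else 0 := fun i hi => by
        show L (t ^ ((⟨i, hi⟩ : Fin (m + 2)) : ℕ)) _ = _
        rw [hval, Pi.single_apply]
        simp [Fin.ext_iff, eq_comm]
      let F : A →ₗ[k] k := LinearMap.mul' k k ∘ₗ TensorProduct.map ξ η ∘ₗ CoalgebraStruct.comul (R := k) (A := A)
      have hF : ∀ n, F (t ^ n) = ∑ j ∈ Finset.range (n + 1), (n.choose j : k) * (ξ (t ^ j) * η (t ^ (n - j))) := by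
        intro n
        show LinearMap.mul' k k (TensorProduct.map ξ η (CoalgebraStruct.comul (R := k) (t ^ n))) = _
        rw [Bialgebra.comul_pow, ht, (Commute.all _ _).add_pow, map_sum, map_sum]
        refine Finset.sum_congr rfl fun j _ => ?_
        rw [Algebra.TensorProduct.tmul_pow, Algebra.TensorProduct.tmul_pow, one_pow, one_pow,
          Algebra.TensorProduct.tmul_mul_tmul, mul_one, one_mul, mul_comm _ ((n.choose j : A ⊗[k] A)), ← nsmul_eq_mul,
          map_nsmul, map_nsmul, TensorProduct.map_tmul, LinearMap.mul'_apply, nsmul_eq_mul]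
      have hlt : ∀ i, i < m + 2 → F (t ^ i) = 0 := by
        intro i hi
        rw [hF]
        refine Finset.sum_eq_zero fun j hj => ?_
        rw [Finset.mem_range] at hj
        rw [hξ j (by omega), hη (i - j) (by omega)]
        split_ifs with h1 h2 <;> simp
        omega
      have htop : F (t ^ (m + 2)) = ((m + 2 : ℕ) : k) := by
        rw [hF, Finset.sum_eq_single 1]
        · rw [hξ 1 (by omega), hη (m + 2 - 1) (by omega), if_pos rfl, if_pos (by omega), Nat.choose_one_right]
          simp
        · intro j hj h1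
          rw [Finset.mem_range] at hj
          rcases Nat.lt_or_ge j (m + 2) with h | h
          · rw [hξ j h, if_neg h1, zero_mul, mul_zero]
          · rw [show m + 2 - j = 0 by omega, hη 0 (by omega), if_neg (by omega), mul_zero, mul_zero]
        · intro h
          exact absurd (Finset.mem_range.2 (by omega)) h
      have hker : Submodule.span k (Set.range (Fin.init fun i : Fin (m + 2 + 1) => t ^ (i : ℕ))) ≤ LinearMap.ker F :=
        Submodule.span_le.2 (by rintro _ ⟨i, rfl⟩; exact hlt i i.2)
      have h := hker hmem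
      rw [LinearMap.mem_ker, htop, CharP.cast_eq_zero_iff k p] at h
      have := Nat.le_of_dvd (by omega) h
      omega

/-- A finite cocommutative Hopf algebra with local dual algebra, of dimension `> 1`, has a non-zero primitive. -/
theorem exists_prim_ne_zero [Coalgebra.IsCocomm k A] [Module.Finite k A] (hA : 1 < Module.finrank k A)
    [IsLocalRing (WithConv (A →ₗ[k] k))] : ∃ x : A, x ≠ 0 ∧ IsPrim k x := by
  let D := WithConv (A →ₗ[k] k)
  let ε : D →ₐ[k] k := Bialgebra.counitAlgHom k (CartDual.D k A)
  let I : Ideal D := RingHom.ker ε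
  have hεsurj : Function.Surjective ε := fun c => ⟨algebraMap k D c, AlgHom.commutes ε c⟩
  have : IsArtinianRing D := IsArtinianRing.of_finite k _
  have hImax : I.IsMaximal := RingHom.ker_isMaximal_of_surjective ε.toRingHom hεsurj
  have hI0 : I ≠ ⊥ := by
    intro h0
    have hinj : Function.Injective ε := by
      exact (RingHom.injective_iff_ker_eq_bot ε.toRingHom).2 h0
    have hle := LinearMap.finrank_le_finrank_of_injective (f := ε.toLinearMap) hinj
    have hD : Module.finrank k D = Module.finrank k A := by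
      rw [LinearEquiv.finrank_eq (WithConv.linearEquiv k (A →ₗ[k] k))]
      exact Subspace.dual_finrank_eq
    rw [Module.finrank_self, hD] at hle
    omega
  have hnoe : IsNoetherianRing D := IsNoetherianRing.of_finite k D
  have hne : I * I ≠ I := fun h => hI0 (Submodule.eq_bot_of_le_smul_of_le_jacobson_bot I I
    (hnoe.noetherian I) (by rw [smul_eq_mul, h])
    (by rw [IsLocalRing.jacobson_eq_maximalIdeal _ bot_ne_top, IsLocalRing.eq_maximalIdeal hImax]))
  obtain ⟨a, haI, ha2⟩ := SetLike.exists_of_lt (lt_of_le_of_ne Ideal.mul_le_right hne)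
  let N : Submodule k D := (I * I).restrictScalars k ⊔ Submodule.span k {1}
  have haN : a ∉ N := by
    intro h
    obtain ⟨u, hu, w, hw, rfl⟩ := Submodule.mem_sup.1 h
    obtain ⟨c, rfl⟩ := Submodule.mem_span_singleton.1 hw
    have hu' : ε u = 0 := (Ideal.mul_le_right : I * I ≤ I) hu
    have h2 : ε (u + c • 1) = 0 := haI
    rw [map_add, hu', zero_add, map_smul, map_one, smul_eq_mul, mul_one] at h2
    apply ha2
    rw [h2, zero_smul, add_zero]
    exact hu
  obtain ⟨f, hfa, hfN⟩ := Submodule.exists_dual_map_eq_bot_of_notMem haN inferInstance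
  have hN : ∀ n ∈ N, f n = 0 := fun n hn =>
    (Submodule.mem_bot k).1 (hfN ▸ Submodule.mem_map_of_mem hn)
  have hd : ∀ φ ψ : D, f (φ * ψ) = f φ * ψ 1 + φ 1 * f ψ := by
    intro φ ψ
    have hm : ∀ z : D, z - algebraMap k D (z 1) ∈ I := fun z => by
      show ε (z - algebraMap k D (z 1)) = 0
      rw [map_sub, AlgHom.commutes]
      exact sub_self _
    have h := hN _ (Submodule.mem_sup_left (Ideal.mul_mem_mul (hm φ) (hm ψ)))
    have e : (φ - algebraMap k D (φ 1)) * (ψ - algebraMap k D (ψ 1)) =
        φ * ψ - ψ 1 • φ - φ 1 • ψ + (φ 1 * ψ 1) • 1 := by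
      simp only [Algebra.smul_def, map_mul, mul_one]; ring
    rw [e] at h
    simp only [map_add, map_sub, map_smul, hN 1 (Submodule.mem_sup_right (Submodule.mem_span_singleton_self 1)),
      smul_eq_mul, mul_zero, add_zero] at h
    linear_combination h
  obtain ⟨x, hx, -⟩ := Hopf34.existsUnique_eval f
  refine ⟨x, fun h0 => hfa ?_, Hopf34.ext_dualPair fun φ ψ => ?_⟩
  · rw [show f a = a.ofConv x from hx a.ofConv, h0, map_zero]
  · have h := hd (WithConv.toConv φ) (WithConv.toConv ψ)
    rw [hx φ, hx ψ, show f (WithConv.toConv φ * WithConv.toConv ψ) =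
      (WithConv.toConv φ * WithConv.toConv ψ) x from hx _] at h
    simpa [add_comm] using h

end Groth.Agent.FinHopf34
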