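import Groth.Prelude.Def_ConstGrp
import Groth.Prelude.Def_AlphaP
import Groth.Agent.FinHopf34.GrpLike
import Groth.Agent.FinHopf34.Primitive
import Groth.Agent.Hopf35.Prime
import Groth.Agent.Hopf35.EtaleDual
import Mathlib.RingTheory.Bialgebra.MonoidAlgebra

/-!
Maps out of the group algebra of `ℤ/p` and of `α_p`, recognition of constant groups, prime order classification.
-/

universe u v w

open TensorProduct

noncomputable section

namespace Groth.Agent.FinHopf34

variable {k : Type u} [Field k] {A : Type v} [CommRing A] [HopfAlgebra k A]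

theorem exists_equiv_constGrp [IsAlgClosed k] [Module.Finite k A] [IsReduced A] {Γ : Type w} [Group Γ] [Fintype Γ]
    [DecidableEq Γ] (φ : Γ ≃* WithConv (A →ₐ[k] k)) : Nonempty (A ≃ₐc[k] ConstGrp.F k Γ) := by
  let f : A →ₐ[k] ConstGrp.F k Γ := AlgHom.pi (A := fun _ : Γ => k) fun γ => (φ γ).ofConv
  have hf : ∀ a γ, f a γ = (φ γ).ofConv a := fun _ _ => rfl
  have hε : (Bialgebra.counitAlgHom k (ConstGrp.F k Γ)).comp f = Bialgebra.counitAlgHom k A := by
    refine AlgHom.ext fun a => ?_
    show Coalgebra.counit (R := k) (f a) = _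
    rw [ConstGrp.counit_apply, hf, map_one φ]
    simp
  have hΔ : (Algebra.TensorProduct.map f f).comp (Bialgebra.comulAlgHom k A) =
      (Bialgebra.comulAlgHom k (ConstGrp.F k Γ)).comp f := by
    refine AlgHom.ext fun a => ?_
    show Algebra.TensorProduct.map f f (CoalgebraStruct.comul (R := k) a) = Coalgebra.comul (R := k) (f a)
    rw [ConstGrp.comul_eq_sum]
    have hz : ∀ z : A ⊗[k] A, Algebra.TensorProduct.map f f z = ∑ γ : Γ, ∑ δ : Γ,
        LinearMap.mul' k k (TensorProduct.map (φ γ).ofConv.toLinearMap (φ δ).ofConv.toLinearMap z) •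
          (ConstGrp.e k γ ⊗ₜ[k] ConstGrp.e k δ) := by
      intro z
      induction z with
      | zero => simp
      | add x y hx hy => simp only [map_add, hx, hy, add_smul, Finset.sum_add_distrib]
      | tmul x y =>
        rw [Algebra.TensorProduct.map_tmul, ConstGrp.eq_sum_smul_e (f x), ConstGrp.eq_sum_smul_e (f y),
          TensorProduct.sum_tmul]
        refine Finset.sum_congr rfl fun γ _ => ?_
        rw [TensorProduct.tmul_sum]
        refine Finset.sum_congr rfl fun δ _ => ?_
        rw [TensorProduct.smul_tmul_smul, TensorProduct.map_tmul, LinearMap.mul'_apply, hf, hf]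
        rfl
    rw [hz]
    refine Finset.sum_congr rfl fun γ _ => Finset.sum_congr rfl fun δ _ => ?_
    congr 1
    rw [hf, map_mul, AlgHom.convMul_apply]
    generalize CoalgebraStruct.comul (R := k) a = z
    induction z with
    | zero => simp
    | add x y hx hy => simp only [map_add, hx, hy]
    | tmul x y => simp
  have hinj : Function.Injective f := fun a b h => sub_eq_zero.1
    (Comod33.FinGrp.isNilpotent_of_forall (k := k) fun γ => by
      have := congrFun h (φ.symm (WithConv.toConv γ))
      rw [hf, hf, MulEquiv.apply_symm_apply] at this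
      rw [map_sub, sub_eq_zero]; exact this).eq_zero
  have hdim : Module.finrank k A = Module.finrank k (ConstGrp.F k Γ) := by
    rw [← Hopf35.EtaleDual.card_points_of_isReduced (K := k) (B := A),
      ← Nat.card_congr (WithConv.equiv (A →ₐ[k] k)), ← Nat.card_congr φ.toEquiv,
      LinearEquiv.finrank_eq (ConstGrp.equivFun k Γ).toLinearEquiv, Module.finrank_pi, Nat.card_eq_fintype_card]
  exact ⟨BialgEquiv.ofBijective (BialgHom.ofAlgHom f hε hΔ)
    ⟨hinj, (LinearMap.injective_iff_surjective_of_finrank_eq_finrank (f := f.toLinearMap) hdim).1 hinj⟩⟩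

/-- a bialgebra map from the group algebra of `ℤ/p` from a group-like of order dividing `p` -/
def ofGroupLike (p : ℕ) [Fact p.Prime] {g : A} (hg : IsGroupLikeElem k g) (hgp : g ^ p = 1) :
    MonoidAlgebra k (Multiplicative (ZMod p)) →ₐc[k] A :=
  let F : Multiplicative (ZMod p) →* A :=
    { toFun := fun x => g ^ (Multiplicative.toAdd x).val
      map_one' := by simp
      map_mul' := fun x y => by rw [← pow_add, toAdd_mul, ZMod.val_add, ← pow_eq_pow_mod _ hgp] }
  BialgHom.ofAlgHom (MonoidAlgebra.lift k A (Multiplicative (ZMod p)) F)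
    (MonoidAlgebra.algHom_ext (fun x => by
      have h : IsGroupLikeElem k (F x) := hg.pow
      simp [h.counit_eq_one]) (Subsingleton.elim _ _))
    (MonoidAlgebra.algHom_ext (fun x => by
      have h : IsGroupLikeElem k (F x) := hg.pow
      simp [h.comul_eq_tmul_self]) (Subsingleton.elim _ _))

theorem bijective_ofGroupLike (p : ℕ) [Fact p.Prime] {g : A} (hg : IsGroupLikeElem k g) (hgp : g ^ p = 1)
    (h1 : g ≠ 1) [Module.Finite k A] (hA : Module.finrank k A = p) :
    Function.Bijective (ofGroupLike p hg hgp) := by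
  have hli : LinearIndependent k fun x : Multiplicative (ZMod p) => g ^ (Multiplicative.toAdd x).val :=
    (linearIndependent_pow hg h1 (Fact.out : p.Prime) hgp).comp
      (fun x : Multiplicative (ZMod p) => (⟨(Multiplicative.toAdd x).val, ZMod.val_lt _⟩ : Fin p))
      (fun x y h => Multiplicative.toAdd.injective (ZMod.val_injective p (congrArg Fin.val h)))
  let b := basisOfLinearIndependentOfCardEqFinrank hli (by rw [Fintype.card_multiplicative, ZMod.card, hA])
  have he : (ofGroupLike p hg hgp).toLinearMap =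
      ((MonoidAlgebra.basis (Multiplicative (ZMod p)) k).equiv b (Equiv.refl _)).toLinearMap :=
    (MonoidAlgebra.basis (Multiplicative (ZMod p)) k).ext fun x => by
      rw [LinearEquiv.coe_toLinearMap, Module.Basis.equiv_apply]
      simp [ofGroupLike, b]
      exact (MonoidAlgebra.lift_single _ x 1).trans (one_smul k _)
  have hc : ⇑(ofGroupLike p hg hgp) = ⇑((MonoidAlgebra.basis (Multiplicative (ZMod p)) k).equiv b (Equiv.refl _)) :=
    congrArg DFunLike.coe he
  rw [hc]
  exact LinearEquiv.bijective _

/-- a bialgebra map from `α_p` from a primitive element killed by Frobenius -/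
def ofPrim (p : ℕ) [Fact p.Prime] [CharP k p] {t : A} (ht : IsPrim k t) (htp : t ^ p = 0) :
    AlphaP.A p k →ₐc[k] A :=
  BialgHom.ofAlgHom (AlphaP.lift p k t htp)
    (AlphaP.algHom_ext (by simp [ht.counit_eq_zero]))
    (AlphaP.algHom_ext (by simp [ht]))

theorem bijective_ofPrim (p : ℕ) [Fact p.Prime] [CharP k p] {t : A} (ht : IsPrim k t) (htp : t ^ p = 0) (h0 : t ≠ 0)
    [Module.Finite k A] (hA : Module.finrank k A = p) : Function.Bijective (ofPrim p ht htp) := by
  let b := basisOfLinearIndependentOfCardEqFinrank (ht.linearIndependent_pow h0 p) (by rw [Fintype.card_fin, hA])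
  have he : (ofPrim p ht htp).toLinearMap = ((AlphaP.basis p k).equiv b (Equiv.refl _)).toLinearMap :=
    (AlphaP.basis p k).ext fun x => by
      rw [LinearEquiv.coe_toLinearMap, Module.Basis.equiv_apply]
      simp [ofPrim, b]
      exact (map_pow (AlphaP.lift p k t htp) _ _).trans (by rw [AlphaP.lift_x])
  have hc : ⇑(ofPrim p ht htp) = ⇑((AlphaP.basis p k).equiv b (Equiv.refl _)) :=
    congrArg DFunLike.coe he
  rw [hc]
  exact LinearEquiv.bijective _

theorem exists_equiv_constGrp_of_card [IsAlgClosed k] [Module.Finite k A] [IsReduced A] (l : ℕ) [Fact l.Prime]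
    (hA : Module.finrank k A = l) : Nonempty (A ≃ₐc[k] ConstGrp.F k (Multiplicative (ZMod l))) := by
  have hc : Nat.card (WithConv (A →ₐ[k] k)) = l := by
    rw [Nat.card_congr (WithConv.equiv (A →ₐ[k] k)), Hopf35.EtaleDual.card_points_of_isReduced, hA]
  exact exists_equiv_constGrp (mulEquivOfPrimeCardEq (p := l) (Nat.card_zmod l) hc)

theorem isReduced_of_card [IsAlgClosed k] [Module.Finite k A]
    (h : Nat.card (WithConv (A →ₐ[k] k)) = Module.finrank k A) : IsReduced A := by
  haveI := Hopf35.EtaleDual.etale_of_card_points (K := k) (B := A)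
    ((Nat.card_congr (WithConv.equiv (A →ₐ[k] k))).symm.trans h)
  exact Algebra.FormallyUnramified.isReduced_of_field k A

theorem classify [IsAlgClosed k] (p : ℕ) [Fact p.Prime] [CharP k p] (hA : Module.finrank k A = p) :
    Nonempty (A ≃ₐc[k] ConstGrp.F k (Multiplicative (ZMod p))) ∨
      Nonempty (A ≃ₐc[k] MonoidAlgebra k (Multiplicative (ZMod p))) ∨
        Nonempty (A ≃ₐc[k] AlphaP.A p k) := by
  have hp : p.Prime := Fact.out
  haveI : Module.Finite k A := Module.finite_of_finrank_pos (hA ▸ hp.pos)
  haveI := Hopf35.Prime.isCocomm_of_prime (k := k) (A := A) hp hA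
  rcases Hopf35.Prime.isLocalRing_or_card (k := k) (A := A) hp hA with h | h
  · have hD : Module.finrank k (CartDual.D k A) = p :=
      (CartDual.toDual k A).finrank_eq.trans (Subspace.dual_finrank_eq.trans hA)
    have h1A : 1 < Module.finrank k A := hA ▸ hp.one_lt
    rcases Hopf35.Prime.isLocalRing_or_card (k := k) (A := CartDual.D k A) hp hD with h' | h'
    · haveI := h'
      obtain ⟨x, hx0, hx⟩ := exists_prim_ne_zero (k := k) (A := A) h1A
      obtain ⟨t, ht, ht0, htp⟩ := hx.exists_pow_char_eq_zero p hx0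
      exact Or.inr (Or.inr ⟨(BialgEquiv.ofBijective _ (bijective_ofPrim p ht htp ht0 hA)).symm⟩)
    · haveI := isReduced_of_card (k := k) (A := CartDual.D k A) (h'.trans hD.symm)
      obtain ⟨g₀, hg₀, hg₀1⟩ := exists_groupLike_ne_one (k := k) (A := A) h1A
      obtain ⟨g, hg, hg1, hgp⟩ := exists_groupLike_pow_eq_one p hg₀ hg₀1
      exact Or.inr (Or.inl ⟨(BialgEquiv.ofBijective _ (bijective_ofGroupLike p hg hgp hg1 hA)).symm⟩)
  · haveI := isReduced_of_card (k := k) (A := A) (h.trans hA.symm)
    exact Or.inl (exists_equiv_constGrp_of_card p hA)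

end Groth.Agent.FinHopf34
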