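import Groth.Agent.Henz21.FiniteLocal
import Mathlib.RingTheory.HopfAlgebra.Quotient
import Mathlib.RingTheory.Unramified.Finite
import Mathlib.RingTheory.Smooth.Fiber
import Mathlib.RingTheory.Flat.Equalizer
import Mathlib.RingTheory.LocalRing.Module
import Mathlib.Algebra.Algebra.Shrink

/-!
The unit component of a finite flat group over a henselian local base.
-/

universe u v w

open TensorProduct

noncomputable section

namespace Groth.Agent.FinHopf34

section Jac

variable {S : Type*} [CommRing S]

theorem isUnit_of_sub_one_mem_jac {x : S} (h : x - 1 ∈ Ideal.jacobson (⊥ : Ideal S)) : IsUnit x := by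
  have := Ideal.mem_jacobson_bot.1 h 1
  simpa using this

theorem eq_of_idem_sub_mem_jac {x y : S} (hx : IsIdempotentElem x) (hy : IsIdempotentElem y)
    (h : x - y ∈ Ideal.jacobson (⊥ : Ideal S)) : x = y := by
  have hu : IsUnit (1 - (x - y) ^ 2) := by
    have := Ideal.mem_jacobson_bot.1 h (-(x - y))
    convert this using 1
    ring
  have hx' : x * x = x := hx
  have hy' : y * y = y := hy
  have h0 : (x - y) * (1 - (x - y) ^ 2) = 0 := by
    linear_combination (-(x + 1) + 3 * y) * hx' + ((y + 1) - 3 * x) * hy'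
  exact sub_eq_zero.1 ((hu.mul_left_eq_zero).1 h0)

/-- two points of an unramified algebra which agree modulo the radical agree -/
theorem eq_of_unramified {R C : Type*} [CommRing R] [CommRing C] [Algebra R C] [Algebra R S]
    [Algebra.FormallyUnramified R C] [Algebra.EssFiniteType R C] (f g : C →ₐ[R] S)
    (h : ∀ c, f c - g c ∈ Ideal.jacobson (⊥ : Ideal S)) : f = g := by
  let L : C ⊗[R] C →ₐ[R] S := Algebra.TensorProduct.lift f g (fun _ _ => Commute.all _ _)
  let t : C ⊗[R] C := Algebra.FormallyUnramified.elem R C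
  have h1 : ∀ z : C ⊗[R] C, L z - f (Algebra.TensorProduct.lmul' R z) ∈ Ideal.jacobson (⊥ : Ideal S) := by
    intro z
    induction z with
    | zero => simp
    | add p q hp hq =>
      have := add_mem hp hq
      simp only [map_add]
      convert this using 1
      abel
    | tmul a b =>
      simp only [L, Algebra.TensorProduct.lift_tmul, Algebra.TensorProduct.lmul'_apply_tmul, map_mul, ← mul_sub]
      refine Ideal.mul_mem_left _ _ ?_
      have := neg_mem (h b)
      rwa [neg_sub] at this
  have hu : IsUnit (L t) := by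
    refine isUnit_of_sub_one_mem_jac ?_
    have := h1 t
    rwa [Algebra.FormallyUnramified.lmul_elem, map_one] at this
  refine AlgHom.ext fun c => ?_
  have h2 := congrArg L (Algebra.FormallyUnramified.one_tmul_mul_elem (R := R) c)
  simp only [map_mul, L, Algebra.TensorProduct.lift_tmul, map_one, one_mul, mul_one] at h2
  exact (hu.mul_right_cancel h2).symm

end Jac

section Aug

variable {R : Type*} [CommRing R] [IsLocalRing R] {Q : Type*} [CommRing Q] [Algebra R Q] [IsLocalRing Q]
  [Algebra.IsIntegral R Q] {S : Type*} [CommRing S] [Algebra R S] [Algebra.IsIntegral R S]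

theorem map_mem_jac (f : Q →ₐ[R] S) {x : Q} (hx : x ∈ IsLocalRing.maximalIdeal Q) :
    f x ∈ Ideal.jacobson (⊥ : Ideal S) := by
  rw [Ideal.jacobson, Ideal.mem_sInf]
  rintro P ⟨-, hP⟩
  have h1 : (P.comap (algebraMap R S)).IsMaximal := Ideal.isMaximal_comap_of_isIntegral_of_isMaximal P
  have h2 : (P.comap f).IsMaximal := by
    refine Ideal.isMaximal_of_isIntegral_of_isMaximal_comap (R := R) _ ?_
    convert h1 using 1
    ext r
    simp
  rw [← IsLocalRing.eq_maximalIdeal h2] at hx
  exact hx

theorem aug_mem_maximalIdeal (ε : Q →ₐ[R] R) {x : Q} (hx : ε x = 0) : x ∈ IsLocalRing.maximalIdeal Q := by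
  intro h
  have := h.map ε
  rw [hx] at this
  exact not_isUnit_zero this

theorem sub_aug_mem_jac (ε : Q →ₐ[R] R) (f : Q →ₐ[R] S) (x : Q) :
    f x - algebraMap R S (ε x) ∈ Ideal.jacobson (⊥ : Ideal S) := by
  have h := map_mem_jac f (aug_mem_maximalIdeal ε (x := x - algebraMap R Q (ε x)) (by simp))
  simpa using h

theorem idem_eq_one_of_aug (ε : Q →ₐ[R] R) {x : Q} (hx : IsIdempotentElem x) (hε : ε x = 1) : x = 1 := by
  refine eq_of_idem_sub_mem_jac hx IsIdempotentElem.one ?_
  have h := sub_aug_mem_jac ε (AlgHom.id R Q) x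
  simpa [hε] using h

/-- residue classes along an augmented local factor -/
theorem tmul_sub_mem_jac {A : Type*} [CommRing A] [Algebra R A] [Algebra.IsIntegral R (A ⊗[R] Q)]
    (ε : Q →ₐ[R] R) (z : A ⊗[R] Q) :
    z - (TensorProduct.rid R A (ε.toLinearMap.lTensor A z)) ⊗ₜ[R] 1 ∈ Ideal.jacobson (⊥ : Ideal (A ⊗[R] Q)) := by
  induction z with
  | zero => simp
  | add p q hp hq =>
    have := add_mem hp hq
    simp only [map_add, add_tmul]
    convert this using 1
    abel
  | tmul a x =>
    have h := Ideal.mul_mem_left _ (a ⊗ₜ[R] (1 : Q))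
      (sub_aug_mem_jac ε (Algebra.TensorProduct.includeRight : Q →ₐ[R] A ⊗[R] Q) x)
    have h2 : (ε x • a) ⊗ₜ[R] (1 : Q) = a ⊗ₜ[R] (1 : Q) * algebraMap R (A ⊗[R] Q) (ε x) := by
      rw [Algebra.TensorProduct.algebraMap_apply, Algebra.TensorProduct.tmul_mul_tmul, mul_one, Algebra.smul_def,
        mul_comm]
    simp only [LinearMap.lTensor_tmul, AlgHom.toLinearMap_apply, TensorProduct.rid_tmul, h2]
    simpa [mul_sub] using h

/-- the tensor square of an augmented local finite algebra is local -/
theorem isLocalRing_tensor [Algebra.IsIntegral R (Q ⊗[R] Q)] (ε : Q →ₐ[R] R) : IsLocalRing (Q ⊗[R] Q) := by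
  let ψ : Q ⊗[R] Q →ₐ[R] R := Algebra.TensorProduct.lift ε ε (fun _ _ => Commute.all _ _)
  have key : ∀ z, z - algebraMap R _ (ψ z) ∈ Ideal.jacobson (⊥ : Ideal (Q ⊗[R] Q)) := by
    intro z
    induction z with
    | zero => simp
    | add p q hp hq =>
      have := add_mem hp hq
      simp only [map_add]
      convert this using 1
      abel
    | tmul a b =>
      have h1 := Ideal.mul_mem_left _ (a ⊗ₜ[R] (1 : Q))
        (sub_aug_mem_jac ε (Algebra.TensorProduct.includeRight : Q →ₐ[R] Q ⊗[R] Q) b)
      have h2 := Ideal.mul_mem_left _ (algebraMap R (Q ⊗[R] Q) (ε b))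
        (sub_aug_mem_jac ε (Algebra.TensorProduct.includeLeft : Q →ₐ[R] Q ⊗[R] Q) a)
      have := add_mem h1 h2
      convert this using 1
      simp only [ψ, Algebra.TensorProduct.lift_tmul, map_mul, Algebra.TensorProduct.includeLeft_apply,
        Algebra.TensorProduct.includeRight_apply, mul_sub]
      rw [Algebra.TensorProduct.tmul_mul_tmul, mul_one, one_mul]
      ring
  have : Nontrivial (Q ⊗[R] Q) := RingHom.domain_nontrivial ψ.toRingHom
  refine IsLocalRing.of_isUnit_or_isUnit_of_isUnit_add fun {a b} hab => ?_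
  have lift : ∀ c, IsUnit (ψ c) → IsUnit c := by
    intro c hc
    obtain ⟨d, hd⟩ := hc.exists_right_inv
    have h := Ideal.mul_mem_right (algebraMap R _ d) _ (key c)
    rw [sub_mul, ← map_mul, hd, map_one] at h
    exact isUnit_of_mul_isUnit_left (isUnit_of_sub_one_mem_jac h)
  have h := hab.map ψ
  rw [map_add] at h
  exact (IsLocalRing.isUnit_or_isUnit_of_isUnit_add h).imp (lift a) (lift b)

end Aug

section UnitComponent

variable {R : Type u} [CommRing R] [IsLocalRing R] {A : Type v} [CommRing A] [HopfAlgebra R A]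
variable {e : A}

/-- the ideal of the unit component -/
abbrev unitI (e : A) : Ideal A := Ideal.span {1 - e}

theorem mk_e : Ideal.Quotient.mk (unitI e) e = 1 := by
  rw [← map_one (Ideal.Quotient.mk (unitI e)), eq_comm, Ideal.Quotient.mk_eq_mk_iff_sub_mem]
  exact Ideal.mem_span_singleton_self _

/-- the counit of the unit component -/
def counit0 (hε : Bialgebra.counitAlgHom R A e = 1) : (A ⧸ unitI e) →ₐ[R] R :=
  Ideal.Quotient.liftₐ (unitI e) (Bialgebra.counitAlgHom R A) (fun a ha => by
    obtain ⟨c, rfl⟩ := Ideal.mem_span_singleton'.1 ha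
    rw [map_mul, map_sub, map_one, hε, sub_self, mul_zero])

@[simp] theorem counit0_mk (hε : Bialgebra.counitAlgHom R A e = 1) (a : A) :
    counit0 hε (Ideal.Quotient.mk (unitI e) a) = Bialgebra.counitAlgHom R A a := rfl

theorem counit0_comp (hε : Bialgebra.counitAlgHom R A e = 1) :
    (counit0 hε).comp (Ideal.Quotient.mkₐ R (unitI e)) = Bialgebra.counitAlgHom R A := rfl

/-- the unit component as a direct summand -/
def sect (he : IsIdempotentElem e) : (A ⧸ unitI e) →ₗ[A] A :=
  Submodule.liftQ _ (LinearMap.toSpanSingleton A A e) (fun a ha => by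
    obtain ⟨c, rfl⟩ := Ideal.mem_span_singleton'.1 ha
    rw [LinearMap.mem_ker, LinearMap.toSpanSingleton_apply, smul_eq_mul, mul_assoc, sub_mul, one_mul, he.eq, sub_self,
      mul_zero])

@[simp] theorem sect_mk (he : IsIdempotentElem e) (a : A) : sect he (Ideal.Quotient.mk (unitI e) a) = a * e := rfl

theorem mk_sect (he : IsIdempotentElem e) (q : A ⧸ unitI e) : Ideal.Quotient.mk (unitI e) (sect he q) = q := by
  obtain ⟨a, rfl⟩ := Ideal.Quotient.mk_surjective q
  rw [sect_mk, map_mul, mk_e, mul_one]

omit [IsLocalRing R] in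
theorem flat0 (he : IsIdempotentElem e) (S : Type*) [CommRing S] [Algebra S A] [Module.Flat S A] :
    Module.Flat S (A ⧸ unitI e) :=
  Module.Flat.of_retract ((sect he).restrictScalars S) ((Ideal.Quotient.mkₐ S (unitI e)).toLinearMap)
    (LinearMap.ext fun q => mk_sect he q)

theorem projective0 [Module.Finite R A] [Module.Flat R A] (he : IsIdempotentElem e) :
    Module.Projective R (A ⧸ unitI e) :=
  have := flat0 he R
  have : Module.Free R (A ⧸ unitI e) := Module.free_of_flat_of_isLocalRing
  inferInstance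

variable [Module.Finite R A] [IsLocalRing (A ⧸ unitI e)]

theorem isHopfIdeal0 (he : IsIdempotentElem e) (hε : Bialgebra.counitAlgHom R A e = 1) :
    (unitI e).IsHopfIdeal R := by
  have := isLocalRing_tensor (counit0 hε)
  let π := Ideal.Quotient.mkₐ R (unitI e)
  let Ψ : A →ₐ[R] (A ⧸ unitI e) ⊗[R] (A ⧸ unitI e) := (Algebra.TensorProduct.map π π).comp (Bialgebra.comulAlgHom R A)
  have hΨ : Ψ e = 1 := by
    let ψ : (A ⧸ unitI e) ⊗[R] (A ⧸ unitI e) →ₐ[R] R :=
      Algebra.TensorProduct.lift (counit0 hε) (counit0 hε) (fun _ _ => Commute.all _ _)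
    have hψ : ψ (Ψ e) = 1 := by
      have h : ∀ z : A ⊗[R] A, ψ (Algebra.TensorProduct.map π π z) =
          Bialgebra.counitAlgHom R A (TensorProduct.rid R A
            ((CoalgebraStruct.counit (R := R) (A := A)).lTensor A z)) := by
        intro z
        induction z with
        | zero => simp
        | add p q hp hq => simp only [map_add, hp, hq]
        | tmul a b => simp [ψ, π, mul_comm]
      show ψ (Algebra.TensorProduct.map π π (CoalgebraStruct.comul (R := R) e)) = 1
      rw [h, Coalgebra.lTensor_counit_comul]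
      simpa using hε
    exact idem_eq_one_of_aug ψ (he.map Ψ) hψ
  have hzero : ∀ x ∈ unitI e, Ψ x = 0 := by
    intro x hx
    obtain ⟨c, rfl⟩ := Ideal.mem_span_singleton'.1 hx
    rw [map_mul, map_sub, map_one, hΨ, sub_self, mul_zero]
  refine { counit_eq_zero := ?_, map_mkQ_comul_eq_zero := ?_, antipode_mem := ?_ }
  · intro x hx
    obtain ⟨c, rfl⟩ := Ideal.mem_span_singleton'.1 hx
    show Bialgebra.counitAlgHom R A _ = 0
    rw [map_mul, map_sub, map_one, hε, sub_self, mul_zero]
  · intro x hx
    have h : ∀ z : A ⊗[R] A,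
        TensorProduct.map ((unitI e).restrictScalars R).mkQ ((unitI e).restrictScalars R).mkQ z =
        TensorProduct.map (Submodule.Quotient.restrictScalarsEquiv R (unitI e)).symm.toLinearMap
          (Submodule.Quotient.restrictScalarsEquiv R (unitI e)).symm.toLinearMap
          (Algebra.TensorProduct.map π π z) := by
      intro z
      induction z with
      | zero => simp
      | add p q hp hq => simp only [map_add, hp, hq]
      | tmul a b => rfl
    rw [h]
    have h0 : Algebra.TensorProduct.map π π (CoalgebraStruct.comul (R := R) x) = 0 := hzero x hx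
    rw [h0, map_zero]
  · intro x hx
    let S : A →ₐ[R] A ⧸ unitI e := π.comp (HopfAlgebra.antipodeAlgHom R A)
    have hS : S e = 1 := by
      refine idem_eq_one_of_aug (counit0 hε) (he.map S) ?_
      show Bialgebra.counitAlgHom R A (HopfAlgebraStruct.antipode (R := R) e) = 1
      simpa using hε
    obtain ⟨c, rfl⟩ := Ideal.mem_span_singleton'.1 hx
    rw [← Ideal.Quotient.eq_zero_iff_mem]
    show S (c * (1 - e)) = 0
    rw [map_mul, map_sub, map_one, hS, sub_self, mul_zero]

theorem residue_surjective (hε : Bialgebra.counitAlgHom R A e = 1) :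
    Function.Surjective (⇑(IsLocalRing.residue (A ⧸ unitI e)) ∘ ⇑(algebraMap R (A ⧸ unitI e))) := by
  intro k
  obtain ⟨q, rfl⟩ := IsLocalRing.residue_surjective k
  refine ⟨counit0 hε q, ?_⟩
  have h := sub_aug_mem_jac (counit0 hε) (AlgHom.id R (A ⧸ unitI e)) q
  rw [IsLocalRing.jacobson_eq_maximalIdeal ⊥ bot_ne_top] at h
  show Ideal.Quotient.mk _ _ = Ideal.Quotient.mk _ _
  rw [eq_comm, Ideal.Quotient.mk_eq_mk_iff_sub_mem]
  exact h

end UnitComponent

theorem henselianLocalRing_of_ringEquiv {B : Type*} {C : Type*} [CommRing B] [CommRing C] [HenselianLocalRing B]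
    (σ : B ≃+* C) : HenselianLocalRing C := by
  have : IsLocalRing C := σ.isLocalRing
  refine HenselianLocalRing.mk ?_
  intro f hf a₀ h₁ h₂
  obtain ⟨b, hb, hb'⟩ := HenselianLocalRing.is_henselian (f.map σ.symm.toRingHom) (hf.map _) (σ.symm a₀) (by
      rw [show σ.symm a₀ = σ.symm.toRingHom a₀ from rfl, Polynomial.eval_map, Polynomial.eval₂_at_apply]
      rw [IsLocalRing.mem_maximalIdeal, mem_nonunits_iff] at h₁ ⊢
      exact fun h => h₁ (by simpa using h.map σ)) (by
      rw [show σ.symm a₀ = σ.symm.toRingHom a₀ from rfl, Polynomial.derivative_map, Polynomial.eval_map,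
        Polynomial.eval₂_at_apply]
      exact h₂.map σ.symm)
  refine ⟨σ b, ?_, ?_⟩
  · have := congrArg σ hb
    rw [Polynomial.eval_map, map_zero] at this
    have h3 := Polynomial.hom_eval₂ f σ.symm.toRingHom σ.toRingHom b
    have hc : σ.toRingHom.comp σ.symm.toRingHom = RingHom.id C := RingHom.ext σ.apply_symm_apply
    rw [hc, Polynomial.eval₂_id] at h3
    show Polynomial.eval (σ b) f = 0
    exact h3.symm.trans this
  · rw [IsLocalRing.mem_maximalIdeal, mem_nonunits_iff] at hb' ⊢
    intro h
    refine hb' ?_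
    have := h.map σ.symm
    simpa using this

/-- a finite local algebra over a henselian local ring is henselian -/
theorem henselianLocalRing_of_finite {R : Type u} [CommRing R] [HenselianLocalRing R] {Q : Type v} [CommRing Q]
    [IsLocalRing Q] [Algebra R Q] [Module.Finite R Q] : HenselianLocalRing Q := by
  obtain ⟨n, f, hf⟩ := Module.Finite.exists_fin' R Q
  have : Small.{u} Q := small_of_surjective hf
  let σ : Shrink.{u} Q ≃+* Q := Shrink.ringEquiv Q
  have : IsLocalRing (Shrink.{u} Q) := σ.symm.isLocalRing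
  have : Module.Finite R (Shrink.{u} Q) := Module.Finite.equiv (Shrink.algEquiv R Q).symm.toLinearEquiv
  have : HenselianLocalRing (Shrink.{u} Q) := Henz21.henselianLocalRing_of_isIntegral (A := R)
  exact henselianLocalRing_of_ringEquiv σ

end Groth.Agent.FinHopf34
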