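import Groth.Agent.FinHopf34.Coaction
import Mathlib.RingTheory.HopfAlgebra.Quotient
import Mathlib.Algebra.Algebra.Equiv
import Mathlib.Algebra.Module.ULift

/-!
The quotient of a finite projective Hopf algebra by a Hopf ideal with finite projective quotient.
-/

universe u v

open TensorProduct

noncomputable section

namespace Groth.Agent.FinHopf34

variable {R : Type u} [CommRing R] {A : Type v} [CommRing A] [HopfAlgebra R A]
variable (I : Ideal A) [I.IsHopfIdeal R]

/-- right translation by the subgroup -/
abbrev rho : A →ₐ[R] A ⊗[R] (A ⧸ I) :=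
  (Algebra.TensorProduct.map (AlgHom.id R A) (Ideal.Quotient.mkₐ R I)).comp (Bialgebra.comulAlgHom R A)

/-- functions invariant under right translation -/
abbrev inv : Subalgebra R A :=
  AlgHom.equalizer (rho (R := R) I) (Algebra.TensorProduct.includeLeft : A →ₐ[R] A ⊗[R] (A ⧸ I))

theorem rho_apply (a : A) :
    rho (R := R) I a = (Ideal.Quotient.mkₐ R I).toLinearMap.lTensor A (CoalgebraStruct.comul (R := R) a) := by
  show Algebra.TensorProduct.map (AlgHom.id R A) (Ideal.Quotient.mkₐ R I) (CoalgebraStruct.comul (R := R) a) = _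
  generalize CoalgebraStruct.comul (R := R) a = z
  induction z with
  | zero => simp
  | add p q hp hq => simp only [map_add, hp, hq]
  | tmul p q => simp

theorem rho_coassoc (a : A) :
    (CoalgebraStruct.comul (R := R) (A := A ⧸ I)).lTensor A (rho (R := R) I a) =
      TensorProduct.assoc R A (A ⧸ I) (A ⧸ I) ((rho (R := R) I).toLinearMap.rTensor (A ⧸ I) (rho (R := R) I a)) := by
  let π := (Ideal.Quotient.mkₐ R I).toLinearMap
  have h1 : ∀ z : A ⊗[R] A, (CoalgebraStruct.comul (R := R) (A := A ⧸ I)).lTensor A (π.lTensor A z) =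
      (TensorProduct.map π π).lTensor A ((CoalgebraStruct.comul (R := R) (A := A)).lTensor A z) := by
    intro z
    induction z with
    | zero => simp
    | add p q hp hq => simp only [map_add, hp, hq]
    | tmul p q =>
      simp only [LinearMap.lTensor_tmul]
      refine congrArg (p ⊗ₜ[R] ·) ?_
      exact (CoalgHomClass.map_comp_comul_apply (Bialgebra.Quotient.mkBialgHom (R := R) I) q).symm
  have h2 : ∀ z : A ⊗[R] A, TensorProduct.assoc R A (A ⧸ I) (A ⧸ I)
      ((rho (R := R) I).toLinearMap.rTensor (A ⧸ I) (π.lTensor A z)) =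
      (TensorProduct.map π π).lTensor A
        (TensorProduct.assoc R A A A ((CoalgebraStruct.comul (R := R) (A := A)).rTensor A z)) := by
    intro z
    induction z with
    | zero => simp
    | add p q hp hq => simp only [map_add, hp, hq]
    | tmul p q =>
      simp only [LinearMap.lTensor_tmul, LinearMap.rTensor_tmul, AlgHom.toLinearMap_apply, rho_apply]
      generalize CoalgebraStruct.comul (R := R) p = w
      induction w with
      | zero => simp
      | add x y hx hy => simp only [map_add, add_tmul, hx, hy]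
      | tmul x y => simp [π]
  rw [rho_apply, h1, h2, Coalgebra.coassoc_apply]

theorem rho_counit (a : A) :
    TensorProduct.rid R A ((CoalgebraStruct.counit (R := R) (A := A ⧸ I)).lTensor A (rho (R := R) I a)) = a := by
  rw [rho_apply]
  have h : ∀ z : A ⊗[R] A, (CoalgebraStruct.counit (R := R) (A := A ⧸ I)).lTensor A
      ((Ideal.Quotient.mkₐ R I).toLinearMap.lTensor A z) = (CoalgebraStruct.counit (R := R) (A := A)).lTensor A z := by
    intro z
    induction z with
    | zero => simp
    | add p q hp hq => simp only [map_add, hp, hq]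
    | tmul p q =>
      simp only [LinearMap.lTensor_tmul]
      congr 1
  rw [h, Coalgebra.lTensor_counit_comul]
  simp

theorem rho_free (b : A ⊗[R] (A ⧸ I)) :
    b ∈ AddSubgroup.closure {y | ∃ a a', y = (a ⊗ₜ[R] (1 : A ⧸ I)) * rho (R := R) I a'} := by
  induction b with
  | zero => exact zero_mem _
  | add p q hp hq => exact add_mem hp hq
  | tmul a q =>
    obtain ⟨c, rfl⟩ := Ideal.Quotient.mk_surjective q
    let π := (Ideal.Quotient.mkₐ R I).toLinearMap
    have key : ∀ w : A ⊗[R] A, ((a ⊗ₜ[R] (1 : A ⧸ I)) * π.lTensor A (LinearMap.rTensor A (LinearMap.mul' R A)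
        ((TensorProduct.assoc R A A A).symm (LinearMap.rTensor (A ⊗[R] A) (HopfAlgebraStruct.antipode (R := R) (A := A))
          ((CoalgebraStruct.comul (R := R) (A := A)).lTensor A w))))) ∈
        AddSubgroup.closure {y | ∃ a a', y = (a ⊗ₜ[R] (1 : A ⧸ I)) * rho (R := R) I a'} := by
      intro w
      induction w with
      | zero => simp
      | add p q hp hq => simp only [map_add, mul_add]; exact add_mem hp hq
      | tmul x y =>
        refine AddSubgroup.subset_closure ⟨a * HopfAlgebraStruct.antipode (R := R) x, y, ?_⟩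
        rw [rho_apply]
        simp only [LinearMap.lTensor_tmul, LinearMap.rTensor_tmul]
        generalize CoalgebraStruct.comul (R := R) y = v
        induction v with
        | zero => simp
        | add p q hp hq => simp only [tmul_add, map_add, mul_add, hp, hq]
        | tmul p q => simp [π, mul_assoc]
    have h := key (CoalgebraStruct.comul (R := R) c)
    rw [antipode_comul_lTensor] at h
    simpa [π] using h

variable [Module.Finite R (A ⧸ I)] [Module.Projective R (A ⧸ I)]

section Lift

/-- translation on a copy of `A` in a universe large enough -/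
def rhoU : ULift.{u} A →ₐ[R] ULift.{u} A ⊗[R] (A ⧸ I) :=
  (Algebra.TensorProduct.map (ULift.algEquiv (R := R) (A := A)).symm.toAlgHom (AlgHom.id R (A ⧸ I))).comp
    ((rho (R := R) I).comp (ULift.algEquiv (R := R) (A := A)).toAlgHom)

omit [Module.Finite R (A ⧸ I)] [Module.Projective R (A ⧸ I)]

theorem rhoU_up (a : A) :
    rhoU I (ULift.up a) = (ULift.moduleEquiv (R := R) (M := A)).symm.toLinearMap.rTensor (A ⧸ I) (rho (R := R) I a) := by
  show Algebra.TensorProduct.map (ULift.algEquiv (R := R) (A := A)).symm.toAlgHom (AlgHom.id R (A ⧸ I))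
    (rho (R := R) I a) = _
  generalize rho (R := R) I a = z
  induction z with
  | zero => simp
  | add p q hp hq => simp only [map_add, hp, hq]
  | tmul p q => simp; rfl

theorem rhoU_coassoc (a : ULift.{u} A) :
    (CoalgebraStruct.comul (R := R) (A := A ⧸ I)).lTensor _ (rhoU I a) =
      TensorProduct.assoc R _ (A ⧸ I) (A ⧸ I) ((rhoU I).toLinearMap.rTensor (A ⧸ I) (rhoU I a)) := by
  obtain ⟨a⟩ := a
  let up := (ULift.moduleEquiv.{u} (R := R) (M := A)).symm.toLinearMap
  have h1 : ∀ z : A ⊗[R] (A ⧸ I), (CoalgebraStruct.comul (R := R) (A := A ⧸ I)).lTensor _ (up.rTensor (A ⧸ I) z) =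
      up.rTensor _ ((CoalgebraStruct.comul (R := R) (A := A ⧸ I)).lTensor A z) := fun z => by
    rw [← LinearMap.comp_apply, LinearMap.lTensor_comp_rTensor, ← LinearMap.rTensor_comp_lTensor, LinearMap.comp_apply]
  have h2 : ∀ z : A ⊗[R] (A ⧸ I), TensorProduct.assoc R _ (A ⧸ I) (A ⧸ I)
      ((rhoU I).toLinearMap.rTensor (A ⧸ I) (up.rTensor (A ⧸ I) z)) =
      up.rTensor _ (TensorProduct.assoc R A (A ⧸ I) (A ⧸ I) ((rho (R := R) I).toLinearMap.rTensor (A ⧸ I) z)) := by
    intro z
    induction z with
    | zero => simp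
    | add p q hp hq => simp only [map_add, hp, hq]
    | tmul p q =>
      simp only [LinearMap.rTensor_tmul, AlgHom.toLinearMap_apply]
      rw [show up p = ULift.up p from rfl, rhoU_up]
      generalize rho (R := R) I p = w
      induction w with
      | zero => simp
      | add x y hx hy => simp only [map_add, add_tmul, hx, hy]
      | tmul x y => simp [up]
  rw [rhoU_up, h1, h2, rho_coassoc]

theorem rhoU_counit (a : ULift.{u} A) :
    TensorProduct.rid R _ ((CoalgebraStruct.counit (R := R) (A := A ⧸ I)).lTensor _ (rhoU I a)) = a := by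
  obtain ⟨a⟩ := a
  let up := (ULift.moduleEquiv.{u} (R := R) (M := A)).symm.toLinearMap
  have h : ∀ z : A ⊗[R] (A ⧸ I), TensorProduct.rid R _ ((CoalgebraStruct.counit (R := R) (A := A ⧸ I)).lTensor _ (up.rTensor (A ⧸ I) z)) =
      up (TensorProduct.rid R A ((CoalgebraStruct.counit (R := R) (A := A ⧸ I)).lTensor A z)) := by
    intro z
    induction z with
    | zero => simp
    | add p q hp hq => simp only [map_add, hp, hq]
    | tmul p q => simp [up]
  rw [rhoU_up, h, rho_counit]
  rfl

theorem rhoU_free (b : ULift.{u} A ⊗[R] (A ⧸ I)) :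
    b ∈ AddSubgroup.closure {y | ∃ a a', y = (a ⊗ₜ[R] (1 : A ⧸ I)) * rhoU I a'} := by
  let Φ := Algebra.TensorProduct.map (ULift.algEquiv.{u} (R := R) (A := A)).symm.toAlgHom (AlgHom.id R (A ⧸ I))
  obtain ⟨z, rfl⟩ : ∃ z, Φ z = b := by
    induction b with
    | zero => exact ⟨0, map_zero _⟩
    | add p q hp hq =>
      obtain ⟨z, rfl⟩ := hp; obtain ⟨w, rfl⟩ := hq
      exact ⟨z + w, map_add _ _ _⟩
    | tmul p q => exact ⟨p.down ⊗ₜ q, by simp [Φ]; rfl⟩
  refine AddSubgroup.closure_induction (p := fun z _ => Φ z ∈ _) ?_ ?_ ?_ ?_ (rho_free (R := R) I z)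
  · rintro _ ⟨a, a', rfl⟩
    exact AddSubgroup.subset_closure ⟨ULift.up a, ULift.up a', by rw [map_mul]; simp [Φ, rhoU]; rfl⟩
  · simp
  · intro p q _ _ hp hq
    rw [map_add]; exact add_mem hp hq
  · intro p _ hp
    rw [map_neg]; exact neg_mem hp

/-- invariants in the copy -/
abbrev invU : Subalgebra R (ULift.{u} A) :=
  AlgHom.equalizer (rhoU (R := R) I) (Algebra.TensorProduct.includeLeft : ULift.{u} A →ₐ[R] ULift.{u} A ⊗[R] (A ⧸ I))

theorem mem_inv_iff (a : A) :
    a ∈ inv (R := R) I ↔ ULift.up a ∈ invU.{u} (R := R) I := by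
  rw [AlgHom.mem_equalizer, AlgHom.mem_equalizer, rhoU_up]
  constructor
  · intro h; rw [h]; simp
  · intro h
    have := congrArg ((ULift.moduleEquiv.{u} (R := R) (M := A)).toLinearMap.rTensor (A ⧸ I)) h
    rw [← LinearMap.comp_apply, ← LinearMap.rTensor_comp, LinearEquiv.comp_coe, LinearEquiv.symm_trans_self] at this
    simpa using this

/-- the invariants in the two copies agree -/
def invEquiv : inv (R := R) I ≃ₐ[R] invU.{u} (R := R) I where
  toFun a := ⟨ULift.up a.1, (mem_inv_iff I _).1 a.2⟩
  invFun a := ⟨a.1.down, (mem_inv_iff I _).2 a.2⟩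
  left_inv _ := rfl
  right_inv _ := rfl
  map_mul' _ _ := rfl
  map_add' _ _ := rfl
  commutes' _ := rfl

end Lift

attribute [local irreducible] rhoU

theorem moduleFinite_projective_inv : Module.Finite (inv (R := R) I) A ∧ Module.Projective (inv (R := R) I) A := by
  obtain ⟨h1, h2, -⟩ := finite_projective_of_free (k := R) (H := A ⧸ I) (A := ULift.{u} A) (rhoU.{u} (R := R) I) (rhoU_coassoc (R := R) I) (rhoU_counit (R := R) I) (rhoU_free (R := R) I)
  let σ : invU.{u} (R := R) I ≃+* inv (R := R) I :=
    (invEquiv I).symm.toRingEquiv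
  haveI : RingHomInvPair σ.toRingHom σ.symm.toRingHom := ⟨RingHom.ext σ.symm_apply_apply, RingHom.ext σ.apply_symm_apply⟩
  haveI : RingHomInvPair σ.symm.toRingHom σ.toRingHom := ⟨RingHom.ext σ.apply_symm_apply, RingHom.ext σ.symm_apply_apply⟩
  let e : ULift.{u} A ≃ₛₗ[σ.toRingHom] A :=
    { toFun := ULift.down
      invFun := ULift.up
      left_inv := fun _ => rfl
      right_inv := fun _ => rfl
      map_add' := fun _ _ => rfl
      map_smul' := fun _ _ => rfl }
  exact ⟨Module.Finite.of_surjective e.toLinearMap e.surjective, Module.Projective.of_equiv e⟩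

theorem isIntegral_inv : Algebra.IsIntegral (inv (R := R) I) A :=
  have := (moduleFinite_projective_inv (R := R) I).1
  Algebra.IsIntegral.of_finite _ _

theorem faithfullyFlat_inv : Module.FaithfullyFlat (inv (R := R) I) A :=
  have := (moduleFinite_projective_inv (R := R) I).2
  have := isIntegral_inv (R := R) I
  Module.FaithfullyFlat.of_comap_surjective (Algebra.IsIntegral.comap_surjective (R := inv (R := R) I) (S := A))

/-- ranks along a change of rings by an isomorphism -/
theorem rankAtStalk_of_ringEquiv {C C' : Type*} [CommRing C] [CommRing C'] {M M' : Type*} [AddCommGroup M] [Module C M]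
    [AddCommGroup M'] [Module C' M'] [Module.Finite C M] [Module.Flat C M] (σ : C ≃+* C') (e : M ≃+ M')
    (he : ∀ c m, e (c • m) = σ c • e m) (q : PrimeSpectrum C') :
    Module.rankAtStalk M' q = Module.rankAtStalk M (q.comap σ.toRingHom) := by
  let : Algebra C C' := σ.toRingHom.toAlgebra
  let : Module C M' := Module.compHom M' σ.toRingHom
  have : IsScalarTower C C' M' := ⟨fun c c' m => by
    show (σ c * c') • m = σ c • c' • m
    rw [mul_smul]⟩
  let f : M →ₗ[C] M' := { toFun := e, map_add' := map_add e, map_smul' := he }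
  have hφ : Function.Bijective (f.liftBaseChange C') := by
    refine Function.bijective_iff_has_inverse.2 ⟨fun m => (1 : C') ⊗ₜ[C] e.symm m, fun z => ?_, fun m => ?_⟩
    · induction z with
      | zero => simp
      | add p q hp hq => simp only [map_add, tmul_add] at hp hq ⊢; rw [hp, hq]
      | tmul c' m =>
        obtain ⟨c, rfl⟩ := σ.surjective c'
        have h1 : (f.liftBaseChange C') (σ c ⊗ₜ[C] m) = e (c • m) := by
          rw [LinearMap.liftBaseChange_tmul, he]; rfl
        simp only [h1, AddEquiv.symm_apply_apply]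
        rw [← smul_tmul]
        congr 1
        show σ c * 1 = σ c
        rw [mul_one]
    · simp only [LinearMap.liftBaseChange_tmul, one_smul]; exact e.apply_symm_apply m
  rw [← congrFun (Module.rankAtStalk_eq_of_equiv (LinearEquiv.ofBijective _ hφ)) q, Module.rankAtStalk_baseChange q]
  rfl

theorem rankAtStalk_inv (c : PrimeSpectrum (inv (R := R) I)) :
    Module.rankAtStalk A c = Module.rankAtStalk (A ⧸ I) (c.comap (algebraMap R (inv (R := R) I))) := by
  have := (moduleFinite_projective_inv (R := R) I).1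
  have := (moduleFinite_projective_inv (R := R) I).2
  let σ : inv (R := R) I ≃+* invU.{u} (R := R) I := (invEquiv I).toRingEquiv
  let q : PrimeSpectrum (invU.{u} (R := R) I) := c.comap σ.symm.toRingHom
  have hc : q.comap σ.toRingHom = c := by
    refine PrimeSpectrum.ext (Ideal.ext fun b => ?_)
    show σ.symm (σ b) ∈ c.asIdeal ↔ _
    rw [RingEquiv.symm_apply_apply]
  have h1 := rankAtStalk_of_ringEquiv (C := inv (R := R) I) (C' := invU.{u} (R := R) I) (M := A) (M' := ULift.{u} A)
    σ AddEquiv.ulift.symm (fun _ _ => rfl) q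
  rw [hc] at h1
  rw [← h1, rankAtStalk_invariants (k := R) (H := A ⧸ I) (A := ULift.{u} A) (rhoU.{u} (R := R) I)
    (rhoU_coassoc (R := R) I) (rhoU_counit (R := R) I) (rhoU_free (R := R) I) q]
  rfl

end Groth.Agent.FinHopf34
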