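import Groth.Agent.FinHopf34.Semilocal
import Mathlib.RingTheory.Artinian.Module
import Mathlib.RingTheory.Flat.FaithfullyFlat.Basic
import Mathlib.RingTheory.LocalRing.ResidueField.Ideal

/-!
Ranks in a tower `R → B → A` with `A` of constant rank over `B` above each prime of `R`.
-/

universe u v w

open TensorProduct

namespace Groth.Agent.FinHopf34

variable {R : Type u} [CommRing R] {B : Type v} [CommRing B] [Algebra R B] {A : Type w} [CommRing A]
  [Algebra R A] [Algebra B A] [IsScalarTower R B A]

variable (R B A) in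
/-- flatness descends to an intermediate ring under a faithfully flat map -/
theorem flat_of_faithfullyFlat_top [Module.FaithfullyFlat B A] [Module.Flat R A] : Module.Flat R B := by
  rw [Module.Flat.iff_lTensor_preserves_injective_linearMap]
  intro N P _ _ _ _ f hf
  let g : B ⊗[R] N →ₗ[B] B ⊗[R] P := TensorProduct.AlgebraTensorModule.map (LinearMap.id : B →ₗ[B] B) f
  suffices Function.Injective g by exact this
  rw [← Module.FaithfullyFlat.lTensor_injective_iff_injective B A g]
  let eN := TensorProduct.AlgebraTensorModule.cancelBaseChange R B B A N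
  let eP := TensorProduct.AlgebraTensorModule.cancelBaseChange R B B A P
  have key : ∀ z, eP (g.lTensor A z) = f.lTensor A (eN z) := by
    intro z
    induction z with
    | zero => simp
    | add p q hp hq => simp only [map_add, hp, hq]
    | tmul a w =>
      induction w with
      | zero => simp
      | add p q hp hq => simp only [tmul_add, map_add, hp, hq]
      | tmul b n => simp [g, eP, eN]
  intro x y hxy
  have h := congrArg eP hxy
  rw [key, key] at h
  exact eN.injective (Module.Flat.lTensor_preserves_injective_linearMap f hf h)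

theorem rankAtStalk_tower [Module.Finite R B] [Module.Flat R B] [Module.Finite R A] [Module.Flat R A]
    [Module.Finite B A] [Module.Flat B A] (q : PrimeSpectrum R) (h : ℕ)
    (hrk : ∀ c : PrimeSpectrum B, c.comap (algebraMap R B) = q → Module.rankAtStalk A c = h) :
    Module.rankAtStalk A q = h * Module.rankAtStalk B q := by
  let κ := q.asIdeal.ResidueField
  let S := B ⊗[R] κ
  have : IsArtinianRing (κ ⊗[R] B) := IsArtinianRing.of_finite κ _
  have : IsArtinianRing S :=
    (Algebra.TensorProduct.comm R κ B).toRingEquiv.isArtinianRing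
  have hS : ∀ p : PrimeSpectrum S, Module.rankAtStalk (S ⊗[B] A) p = h := fun p => by
    rw [Module.rankAtStalk_baseChange]
    refine hrk _ ?_
    have h1 : (algebraMap B S).comp (algebraMap R B) =
        (Algebra.TensorProduct.includeRight : κ →ₐ[R] S).toRingHom.comp (algebraMap R κ) := by
      ext r
      exact ((Algebra.TensorProduct.includeRight : κ →ₐ[R] S).commutes r).symm
    rw [← PrimeSpectrum.comap_comp_apply, h1, PrimeSpectrum.comap_comp_apply,
      Subsingleton.elim (PrimeSpectrum.comap (Algebra.TensorProduct.includeRight : κ →ₐ[R] S).toRingHom p) (⊥ : PrimeSpectrum κ)]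
    refine PrimeSpectrum.ext ?_
    show (⊥ : Ideal κ).comap (algebraMap R κ) = q.asIdeal
    rw [← RingHom.ker_eq_comap_bot, Ideal.ker_algebraMap_residueField]
  obtain ⟨b⟩ := nonempty_basis_of_rankAtStalk_eq h hS
  let e1 : κ ⊗[R] A ≃ₗ[R] S ⊗[B] A :=
    TensorProduct.comm R κ A ≪≫ₗ
      (TensorProduct.AlgebraTensorModule.cancelBaseChange R B B A κ).symm.restrictScalars R ≪≫ₗ
      (TensorProduct.comm B A S).restrictScalars R
  let e2 : κ ⊗[R] A ≃ₗ[R] (Fin h → κ ⊗[R] B) :=
    e1 ≪≫ₗ b.equivFun.restrictScalars R ≪≫ₗ LinearEquiv.piCongrRight (fun _ => TensorProduct.comm R B κ)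
  let e3 : κ ⊗[R] A ≃ₗ[R ⧸ q.asIdeal] (Fin h → κ ⊗[R] B) :=
    { e2 with
      map_smul' := fun r x => by
        obtain ⟨r, rfl⟩ := Ideal.Quotient.mk_surjective r
        show e2 (algebraMap R (R ⧸ q.asIdeal) r • x) = algebraMap R (R ⧸ q.asIdeal) r • e2 x
        rw [algebraMap_smul, algebraMap_smul, map_smul] }
  let e4 : κ ⊗[R] A ≃ₗ[κ] (Fin h → κ ⊗[R] B) :=
    e3.extendScalarsOfIsLocalization (nonZeroDivisors (R ⧸ q.asIdeal)) κ
  rw [Module.rankAtStalk_eq, Module.rankAtStalk_eq]
  show Module.finrank κ (κ ⊗[R] A) = h * Module.finrank κ (κ ⊗[R] B)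
  rw [e4.finrank_eq, Module.finrank_pi_fintype, Finset.sum_const, Finset.card_univ, Fintype.card_fin, smul_eq_mul]

end Groth.Agent.FinHopf34
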