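import Groth.Agent.FinHopf34.Conn
import Groth.Agent.FinHopf34.Quotient
import Groth.Agent.FinHopf34.Rank

/-!
The invariants of the unit component: the maximal etale quotient.
-/

universe u v

open TensorProduct

noncomputable section

namespace Groth.Agent.FinHopf34

section Jac

variable {R : Type*} [CommRing R] {S : Type*} [CommRing S] [Algebra R S] [Algebra.IsIntegral R S]
  {T : Type*} [CommRing T] [Algebra R T] [Algebra.IsIntegral R T]

theorem map_jac_mem_jac (f : S →ₐ[R] T) {x : S} (hx : x ∈ Ideal.jacobson (⊥ : Ideal S)) :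
    f x ∈ Ideal.jacobson (⊥ : Ideal T) := by
  rw [Ideal.jacobson, Ideal.mem_sInf] at hx ⊢
  rintro P ⟨-, hP⟩
  have h1 : (P.comap (algebraMap R T)).IsMaximal := Ideal.isMaximal_comap_of_isIntegral_of_isMaximal P
  have h2 : (P.comap f).IsMaximal := by
    refine Ideal.isMaximal_of_isIntegral_of_isMaximal_comap (R := R) _ ?_
    convert h1 using 1
    ext r
    simp
  exact hx ⟨bot_le, h2⟩

end Jac

section Inv

variable {R : Type u} [CommRing R] [IsLocalRing R] {A : Type v} [CommRing A] [HopfAlgebra R A]
variable [Module.Finite R A] {e : A} [IsLocalRing (A ⧸ unitI e)] [(unitI e).IsHopfIdeal R]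
variable (he : IsIdempotentElem e) (hε : Bialgebra.counitAlgHom R A e = 1)

include hε in
theorem rho_sub_mem_jac (x : A) :
    rho (R := R) (unitI e) x - x ⊗ₜ[R] 1 ∈ Ideal.jacobson (⊥ : Ideal (A ⊗[R] (A ⧸ unitI e))) := by
  have h := tmul_sub_mem_jac (counit0 hε) (rho (R := R) (unitI e) x)
  have h2 : ∀ z : A ⊗[R] A, TensorProduct.rid R A ((counit0 hε).toLinearMap.lTensor A
      (Algebra.TensorProduct.map (AlgHom.id R A) (Ideal.Quotient.mkₐ R (unitI e)) z)) =
      TensorProduct.rid R A ((CoalgebraStruct.counit (R := R) (A := A)).lTensor A z) := by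
    intro z
    induction z with
    | zero => simp
    | add p q hp hq => simp only [map_add, hp, hq]
    | tmul a b =>
      simp only [Algebra.TensorProduct.map_tmul, LinearMap.lTensor_tmul, TensorProduct.rid_tmul]
      rfl
  have h3 : TensorProduct.rid R A ((counit0 hε).toLinearMap.lTensor A (rho (R := R) (unitI e) x)) = x := by
    show TensorProduct.rid R A ((counit0 hε).toLinearMap.lTensor A
      (Algebra.TensorProduct.map (AlgHom.id R A) (Ideal.Quotient.mkₐ R (unitI e)) (CoalgebraStruct.comul (R := R) x))) = x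
    rw [h2, Coalgebra.lTensor_counit_comul]
    simp
  rwa [h3] at h

/-- the difference between translation and inclusion -/
def delta (e : A) : A →ₗ[R] A ⊗[R] (A ⧸ unitI e) :=
  (rho (R := R) (unitI e)).toLinearMap - (Algebra.TensorProduct.includeLeft : A →ₐ[R] A ⊗[R] (A ⧸ unitI e)).toLinearMap

omit [IsLocalRing R] [Module.Finite R A] [IsLocalRing (A ⧸ unitI e)] [(unitI e).IsHopfIdeal R] in
theorem delta_eq_zero_iff (x : A) : delta (R := R) e x = 0 ↔ x ∈ inv (R := R) (unitI e) := by
  simp only [delta, LinearMap.sub_apply, AlgHom.toLinearMap_apply, sub_eq_zero]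
  rfl

omit [IsLocalRing R] [Module.Finite R A] [IsLocalRing (A ⧸ unitI e)] [(unitI e).IsHopfIdeal R] in
theorem exact_delta : Function.Exact (inv (R := R) (unitI e)).val.toLinearMap (delta (R := R) e) := fun x =>
  ⟨fun h => ⟨⟨x, (delta_eq_zero_iff x).1 h⟩, rfl⟩, fun ⟨y, hy⟩ => hy ▸ (delta_eq_zero_iff _).2 y.2⟩

include hε in
theorem idem_mem_inv {x : A} (hx : IsIdempotentElem x) : x ∈ inv (R := R) (unitI e) :=
  eq_of_idem_sub_mem_jac (hx.map (rho (R := R) (unitI e)))
    (hx.map (Algebra.TensorProduct.includeLeft : A →ₐ[R] A ⊗[R] (A ⧸ unitI e))) (rho_sub_mem_jac hε x)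

/-- translation in the right factor -/
abbrev rhoR (e : A) : A ⊗[R] A →ₐ[R] A ⊗[R] (A ⊗[R] (A ⧸ unitI e)) :=
  Algebra.TensorProduct.map (AlgHom.id R A) (rho (R := R) (unitI e))

/-- inclusion in the right factor -/
abbrev iotaR (e : A) : A ⊗[R] A →ₐ[R] A ⊗[R] (A ⊗[R] (A ⧸ unitI e)) :=
  Algebra.TensorProduct.map (AlgHom.id R A) (Algebra.TensorProduct.includeLeft : A →ₐ[R] A ⊗[R] (A ⧸ unitI e))

/-- translation in the left factor -/
abbrev rhoL (e : A) : A ⊗[R] A →ₐ[R] (A ⊗[R] (A ⧸ unitI e)) ⊗[R] A :=
  Algebra.TensorProduct.map (rho (R := R) (unitI e)) (AlgHom.id R A)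

/-- inclusion in the left factor -/
abbrev iotaL (e : A) : A ⊗[R] A →ₐ[R] (A ⊗[R] (A ⧸ unitI e)) ⊗[R] A :=
  Algebra.TensorProduct.map (Algebra.TensorProduct.includeLeft : A →ₐ[R] A ⊗[R] (A ⧸ unitI e)) (AlgHom.id R A)

include hε in
theorem rhoR_sub_mem_jac (z : A ⊗[R] A) :
    rhoR (R := R) e z - iotaR e z ∈ Ideal.jacobson (⊥ : Ideal (A ⊗[R] (A ⊗[R] (A ⧸ unitI e)))) := by
  induction z with
  | zero => simp
  | add p q hp hq =>
    have := add_mem hp hq
    simp only [map_add]
    convert this using 1
    abel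
  | tmul a b =>
    have h0 : Algebra.TensorProduct.includeRight (R := R) (A := A) (rho (R := R) (unitI e) b - b ⊗ₜ[R] 1) ∈
        Ideal.jacobson (⊥ : Ideal (A ⊗[R] (A ⊗[R] (A ⧸ unitI e)))) :=
      map_jac_mem_jac (R := R) (T := A ⊗[R] (A ⊗[R] (A ⧸ unitI e))) Algebra.TensorProduct.includeRight (rho_sub_mem_jac hε b)
    have h := Ideal.mul_mem_left _ (a ⊗ₜ[R] (1 : A ⊗[R] (A ⧸ unitI e))) h0
    convert h using 1
    rw [Algebra.TensorProduct.includeRight_apply]
    erw [Algebra.TensorProduct.tmul_mul_tmul]
    rw [mul_one, one_mul, tmul_sub]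
    rfl

include hε in
theorem rhoL_sub_mem_jac (z : A ⊗[R] A) :
    rhoL (R := R) e z - iotaL e z ∈ Ideal.jacobson (⊥ : Ideal ((A ⊗[R] (A ⧸ unitI e)) ⊗[R] A)) := by
  induction z with
  | zero => simp
  | add p q hp hq =>
    have := add_mem hp hq
    simp only [map_add]
    convert this using 1
    abel
  | tmul a b =>
    have h0 : (Algebra.TensorProduct.includeLeft : A ⊗[R] (A ⧸ unitI e) →ₐ[R] (A ⊗[R] (A ⧸ unitI e)) ⊗[R] A)
        (rho (R := R) (unitI e) a - a ⊗ₜ[R] 1) ∈
        Ideal.jacobson (⊥ : Ideal ((A ⊗[R] (A ⧸ unitI e)) ⊗[R] A)) :=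
      map_jac_mem_jac (R := R) (T := (A ⊗[R] (A ⧸ unitI e)) ⊗[R] A) Algebra.TensorProduct.includeLeft (rho_sub_mem_jac hε a)
    have h := Ideal.mul_mem_left _ ((1 : A ⊗[R] (A ⧸ unitI e)) ⊗ₜ[R] b) h0
    convert h using 1
    rw [Algebra.TensorProduct.includeLeft_apply]
    erw [Algebra.TensorProduct.tmul_mul_tmul]
    rw [mul_one, one_mul, sub_tmul]
    rfl

variable [Module.Flat R A]

include he in
theorem mem_range_of_invariant [Module.Flat R (inv (R := R) (unitI e))] {z : A ⊗[R] A}
    (hR : rhoR (R := R) e z = iotaR e z) (hL : rhoL (R := R) e z = iotaL e z) :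
    z ∈ LinearMap.range (TensorProduct.map (inv (R := R) (unitI e)).val.toLinearMap
      (inv (R := R) (unitI e)).val.toLinearMap) := by
  set B := inv (R := R) (unitI e)
  have h1 : ∀ y : A ⊗[R] A, (delta (R := R) e).rTensor A y = rhoL e y - iotaL e y := by
    intro y
    induction y with
    | zero => simp
    | add p q hp hq => simp only [map_add, hp, hq]; abel
    | tmul a b =>
      rw [LinearMap.rTensor_tmul, delta, LinearMap.sub_apply, sub_tmul]
      rfl
  have h2 : ∀ y : A ⊗[R] A, (delta (R := R) e).lTensor A y = rhoR e y - iotaR e y := by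
    intro y
    induction y with
    | zero => simp
    | add p q hp hq => simp only [map_add, hp, hq]; abel
    | tmul a b =>
      rw [LinearMap.lTensor_tmul, delta, LinearMap.sub_apply, tmul_sub]
      rfl
  obtain ⟨w, rfl⟩ := (Module.Flat.rTensor_exact A exact_delta z).1 (by rw [h1, hL, sub_self])
  have h3 : ∀ w : B ⊗[R] A, (delta (R := R) e).lTensor A (B.val.toLinearMap.rTensor A w) =
      B.val.toLinearMap.rTensor (A ⊗[R] (A ⧸ unitI e)) ((delta (R := R) e).lTensor B w) := by
    intro w
    induction w with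
    | zero => simp
    | add p q hp hq => simp only [map_add, hp, hq]
    | tmul a b => simp
  have := flat0 (S := R) he
  have hinj : Function.Injective (B.val.toLinearMap.rTensor (A ⊗[R] (A ⧸ unitI e))) :=
    Module.Flat.rTensor_preserves_injective_linearMap _ Subtype.val_injective
  have h4 : (delta (R := R) e).lTensor B w = 0 := by
    refine hinj ?_
    rw [← h3, h2, hR, sub_self, map_zero]
  obtain ⟨w', rfl⟩ := (Module.Flat.lTensor_exact B exact_delta w).1 h4
  refine ⟨w', ?_⟩
  clear hR hL h4
  induction w' with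
  | zero => simp
  | add p q hp hq => simp only [map_add, hp, hq]
  | tmul a b => simp

omit [IsLocalRing R] [Module.Finite R A] [IsLocalRing (A ⧸ unitI e)] [Module.Flat R A] [(unitI e).IsHopfIdeal R] in
include he in
theorem comul_mul_e {b : A} (hb : b ∈ inv (R := R) (unitI e)) :
    CoalgebraStruct.comul (R := R) b * (1 : A) ⊗ₜ[R] e = b ⊗ₜ[R] e := by
  let π := Ideal.Quotient.mkₐ R (unitI e)
  have h : ∀ z : A ⊗[R] A, ((sect he).restrictScalars R).lTensor A (Algebra.TensorProduct.map (AlgHom.id R A) π z) =
      z * (1 : A) ⊗ₜ[R] e := by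
    intro z
    induction z with
    | zero => simp
    | add p q hp hq => simp only [map_add, add_mul, hp, hq]
    | tmul a c => simp [π]
  rw [← h]
  have hb' : Algebra.TensorProduct.map (AlgHom.id R A) π (CoalgebraStruct.comul (R := R) b) = b ⊗ₜ[R] (1 : A ⧸ unitI e) := hb
  rw [hb', LinearMap.lTensor_tmul]
  show b ⊗ₜ[R] sect he (Ideal.Quotient.mk (unitI e) 1) = _
  rw [sect_mk, one_mul]

omit [IsLocalRing R] [Module.Finite R A] [IsLocalRing (A ⧸ unitI e)] [Module.Flat R A] [(unitI e).IsHopfIdeal R] in
theorem mk_inv {b : A} (hb : b ∈ inv (R := R) (unitI e)) :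
    Ideal.Quotient.mk (unitI e) b = algebraMap R (A ⧸ unitI e) (Bialgebra.counitAlgHom R A b) := by
  let π := Ideal.Quotient.mkₐ R (unitI e)
  have h : ∀ z : A ⊗[R] A, TensorProduct.lid R (A ⧸ unitI e) ((CoalgebraStruct.counit (R := R) (A := A)).rTensor _
      (Algebra.TensorProduct.map (AlgHom.id R A) π z)) =
      π (TensorProduct.lid R A ((CoalgebraStruct.counit (R := R) (A := A)).rTensor A z)) := by
    intro z
    induction z with
    | zero => simp
    | add p q hp hq => simp only [map_add, hp, hq]
    | tmul a c => simp [π]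
  have h' := h (CoalgebraStruct.comul (R := R) b)
  have hb' : Algebra.TensorProduct.map (AlgHom.id R A) π (CoalgebraStruct.comul (R := R) b) = b ⊗ₜ[R] (1 : A ⧸ unitI e) := hb
  rw [hb', Coalgebra.rTensor_counit_comul] at h'
  simp only [LinearMap.rTensor_tmul, TensorProduct.lid_tmul, one_smul, π, Ideal.Quotient.mkₐ_eq_mk] at h'
  rw [← h', Algebra.smul_def, mul_one]
  rfl

variable [IsNoetherianRing R]

include he hε in
omit [(unitI e).IsHopfIdeal R] in
/-- the invariants of the unit component form a finite etale algebra -/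
theorem finite_etale_inv :
    Module.Finite R (inv (R := R) (unitI e)) ∧ Module.Flat R (inv (R := R) (unitI e)) ∧
      Module.FaithfullyFlat (inv (R := R) (unitI e)) A ∧ Algebra.Etale R (inv (R := R) (unitI e)) := by
  have : (unitI e).IsHopfIdeal R := isHopfIdeal0 he hε
  have := projective0 (R := R) he
  set B := inv (R := R) (unitI e)
  have : IsNoetherian R A := isNoetherian_of_isNoetherianRing_of_finite R A
  have hfin : Module.Finite R B := Module.Finite.of_injective B.val.toLinearMap Subtype.val_injective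
  have hff : Module.FaithfullyFlat B A := faithfullyFlat_inv (R := R) (unitI e)
  have hflat : Module.Flat R B := flat_of_faithfullyFlat_top R B A
  refine ⟨hfin, hflat, hff, ?_⟩
  let d : A ⊗[R] A :=
    Algebra.TensorProduct.map (HopfAlgebra.antipodeAlgHom R A) (AlgHom.id R A) (CoalgebraStruct.comul (R := R) e)
  have hd : IsIdempotentElem d := by
    refine IsIdempotentElem.map ?_ _
    exact he.map (Bialgebra.comulAlgHom R A)
  obtain ⟨t, ht⟩ := mem_range_of_invariant he (z := d)
    (eq_of_idem_sub_mem_jac (hd.map (rhoR (R := R) e)) (hd.map (iotaR (R := R) e)) (rhoR_sub_mem_jac hε d))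
    (eq_of_idem_sub_mem_jac (hd.map (rhoL (R := R) e)) (hd.map (iotaL (R := R) e)) (rhoL_sub_mem_jac hε d))
  let j : B ⊗[R] B →ₐ[R] A ⊗[R] A := Algebra.TensorProduct.map B.val B.val
  have hj : Function.Injective j := by
    have h1 : Function.Injective (B.val.toLinearMap.lTensor B) :=
      Module.Flat.lTensor_preserves_injective_linearMap _ Subtype.val_injective
    have h2 : Function.Injective (B.val.toLinearMap.rTensor A) :=
      Module.Flat.rTensor_preserves_injective_linearMap _ Subtype.val_injective
    have h3 : ∀ z, j z = B.val.toLinearMap.rTensor A (B.val.toLinearMap.lTensor B z) := by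
      intro z
      induction z with
      | zero => simp
      | add p q hp hq => simp only [map_add, hp, hq]
      | tmul a b => simp [j]
    intro x y hxy
    rw [h3, h3] at hxy
    exact h1 (h2 hxy)
  have hjt : j t = d := by
    rw [← ht]
    rfl
  have : Algebra.FormallyUnramified R B := by
    refine Algebra.FormallyUnramified.iff_exists_tensorProduct.2 ⟨t, fun b => hj ?_, ?_⟩
    · rw [map_mul, hjt, map_sub, sub_mul, map_zero, sub_eq_zero]
      simp only [j, Algebra.TensorProduct.map_tmul, map_one, Subalgebra.coe_val]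
      let Φ : A ⊗[R] A →ₐ[R] A ⊗[R] A :=
        Algebra.TensorProduct.lift (Algebra.TensorProduct.includeLeft : A →ₐ[R] A ⊗[R] A)
          ((Algebra.TensorProduct.map (HopfAlgebra.antipodeAlgHom R A) (AlgHom.id R A)).comp
            (Bialgebra.comulAlgHom R A)) (fun _ _ => Commute.all _ _)
      have hΦ : Φ (CoalgebraStruct.comul (R := R) (b : A)) = (1 : A) ⊗ₜ[R] (b : A) := by
        have h1 : ∀ z : A ⊗[R] A, Φ z = LinearMap.rTensor A
            (LinearMap.mul' R A ∘ₗ (HopfAlgebraStruct.antipode (R := R) (A := A)).lTensor A)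
            ((TensorProduct.assoc R A A A).symm ((CoalgebraStruct.comul (R := R) (A := A)).lTensor A z)) := by
          intro z
          induction z with
          | zero => simp
          | add p q hp hq => simp only [map_add, hp, hq]
          | tmul a c =>
            simp only [Φ, Algebra.TensorProduct.lift_tmul, AlgHom.comp_apply, Bialgebra.comulAlgHom_apply,
              Algebra.TensorProduct.includeLeft_apply, LinearMap.lTensor_tmul]
            generalize CoalgebraStruct.comul (R := R) c = w
            induction w with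
            | zero => simp
            | add p q hp hq => simp only [map_add, tmul_add, mul_add, hp, hq]
            | tmul x y => simp
        rw [h1, Coalgebra.coassoc_symm_apply, ← LinearMap.comp_apply (LinearMap.rTensor A _),
          ← LinearMap.rTensor_comp, LinearMap.comp_assoc, HopfAlgebra.mul_antipode_lTensor_comul,
          LinearMap.rTensor_comp, LinearMap.comp_apply, Coalgebra.rTensor_counit_comul]
        simp
      have hd' : Φ ((1 : A) ⊗ₜ[R] e) = d := by
        simp only [Φ, Algebra.TensorProduct.lift_tmul, AlgHom.comp_apply, Algebra.TensorProduct.includeLeft_apply]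
        rw [← Algebra.TensorProduct.one_def, one_mul]
        rfl
      have hb : Φ ((b : A) ⊗ₜ[R] e) = ((b : A) ⊗ₜ[R] (1 : A)) * d := by
        simp only [Φ, Algebra.TensorProduct.lift_tmul, AlgHom.comp_apply, Algebra.TensorProduct.includeLeft_apply]
        rfl
      rw [← comul_mul_e he b.2, map_mul, hΦ, hd'] at hb
      exact hb
    · refine Subtype.val_injective ?_
      have h : ∀ z : B ⊗[R] B, ((Algebra.TensorProduct.lmul' R z : B) : A) = LinearMap.mul' R A (j z) := by
        intro z
        induction z with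
        | zero => simp
        | add p q hp hq => simp only [map_add, Subalgebra.coe_add, hp, hq]
        | tmul a b => simp [j]
      rw [h, hjt]
      show LinearMap.mul' R A ((HopfAlgebraStruct.antipode (R := R) (A := A)).rTensor A
        (CoalgebraStruct.comul (R := R) e)) = _
      rw [HopfAlgebra.mul_antipode_rTensor_comul_apply]
      show algebraMap R A (Bialgebra.counitAlgHom R A e) = _
      rw [hε, map_one]
      rfl
  have : Algebra.FiniteType R B := inferInstance
  have : Algebra.FinitePresentation R B := Algebra.FinitePresentation.of_finiteType.1 this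
  exact Algebra.Etale.of_formallyUnramified_of_flat

include he hε in
omit [(unitI e).IsHopfIdeal R] in
theorem isHopfSubalgebra_inv :
    (∀ b ∈ inv (R := R) (unitI e), CoalgebraStruct.comul (R := R) b ∈
      LinearMap.range (TensorProduct.map (inv (R := R) (unitI e)).val.toLinearMap
        (inv (R := R) (unitI e)).val.toLinearMap)) ∧
    ∀ b ∈ inv (R := R) (unitI e), HopfAlgebraStruct.antipode (R := R) b ∈ inv (R := R) (unitI e) := by
  have : (unitI e).IsHopfIdeal R := isHopfIdeal0 he hε
  obtain ⟨hfin, hflat, -, het⟩ := finite_etale_inv (R := R) he hε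
  set B := inv (R := R) (unitI e)
  refine ⟨fun b hb => ?_, fun b hb => ?_⟩
  · let c : B →ₐ[R] A ⊗[R] A := (Bialgebra.comulAlgHom R A).comp B.val
    have h1 := eq_of_unramified (S := A ⊗[R] (A ⊗[R] (A ⧸ unitI e))) ((rhoR (R := R) e).comp c) ((iotaR (R := R) e).comp c)
      (fun x => rhoR_sub_mem_jac hε (c x))
    have h2 := eq_of_unramified (S := (A ⊗[R] (A ⧸ unitI e)) ⊗[R] A) ((rhoL (R := R) e).comp c) ((iotaL (R := R) e).comp c)
      (fun x => rhoL_sub_mem_jac hε (c x))
    exact mem_range_of_invariant he (DFunLike.congr_fun h1 ⟨b, hb⟩) (DFunLike.congr_fun h2 ⟨b, hb⟩)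
  · let c : B →ₐ[R] A := (HopfAlgebra.antipodeAlgHom R A).comp B.val
    have h1 := eq_of_unramified ((rho (R := R) (unitI e)).comp c)
      ((Algebra.TensorProduct.includeLeft : A →ₐ[R] A ⊗[R] (A ⧸ unitI e)).comp c) (fun x => rho_sub_mem_jac hε (c x))
    exact DFunLike.congr_fun h1 ⟨b, hb⟩

end Inv

end Groth.Agent.FinHopf34
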