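import Groth.Agent.Hopf35.Local
import Groth.Agent.Hopf35.Basic
import Groth.Agent.Hopf34.DualSep
import Mathlib.RingTheory.HopfAlgebra.Quotient

/-!
The subgroup scheme cut out by a point derivation `ξ` with `ξ^p ∈ k ξ`.
-/

universe u v

open TensorProduct

noncomputable section

namespace Groth.Agent.FinHopf34.LieQuot

open Groth.Agent.Hopf35 Coalgebra

variable {k : Type u} [Field k] {A : Type v} [CommRing A] [HopfAlgebra k A]

variable (ξ : A →ₗ[k] k)

/-- the powers of `ξ` in the dual algebra -/
def form (n : ℕ) : A →ₗ[k] k := counit (R := k) (A := A) ∘ₗ (Loc.op k ξ ^ n : Module.End k A)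

theorem op_form (n : ℕ) : Loc.op k (form ξ n) = Loc.op k ξ ^ n := by
  obtain ⟨η, hη⟩ := Loc.exists_op_pow k ξ n
  have h : form ξ n = η := LinearMap.ext fun a => by
    show counit (R := k) ((Loc.op k ξ ^ n : Module.End k A) a) = η a
    rw [hη, Loc.counit_op]
  rw [h, hη]

theorem form_zero : form ξ 0 = counit (R := k) (A := A) := LinearMap.ext fun _ => rfl

theorem form_one : form ξ 1 = ξ := LinearMap.ext fun a => by
  show counit (R := k) ((Loc.op k ξ ^ 1 : Module.End k A) a) = ξ a
  rw [pow_one, Loc.counit_op]

theorem form_add (i j : ℕ) :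
    form ξ (i + j) = LinearMap.mul' k k ∘ₗ TensorProduct.map (form ξ i) (form ξ j) ∘ₗ comul := by
  apply Loc.op_injective k
  rw [← Loc.op_mul, op_form, op_form, op_form, pow_add]

variable {ξ} (hξ : Loc.IsPtDer k ξ)

include hξ in
theorem ptDer_one : ξ 1 = 0 := by
  have := hξ 1 1
  simp at this
  exact this

include hξ in
theorem ptDer_antipode (a : A) : ξ (HopfAlgebraStruct.antipode (R := k) a) = -ξ a := by
  have h := congrArg ξ (HopfAlgebra.mul_antipode_rTensor_comul_apply (R := k) a)
  rw [Algebra.algebraMap_eq_smul_one, map_smul, ptDer_one hξ, smul_zero] at h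
  have key : ∀ z : A ⊗[k] A,
      ξ (LinearMap.mul' k A (LinearMap.rTensor A (HopfAlgebraStruct.antipode (R := k)) z)) =
        ξ (TensorProduct.lid k A ((counit (R := k) (A := A)).rTensor A z)) +
        ξ (HopfAlgebraStruct.antipode (R := k) (TensorProduct.rid k A ((counit (R := k) (A := A)).lTensor A z))) := by
    intro z
    induction z with
    | zero => simp
    | add p q hp hq => simp only [map_add, hp, hq]; ring
    | tmul p q =>
      simp
      rw [hξ, HopfAlgebra.counit_antipode]
  rw [key, Coalgebra.rTensor_counit_comul, Coalgebra.lTensor_counit_comul] at h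
  simp only [TensorProduct.lid_tmul, TensorProduct.rid_tmul, one_smul] at h
  exact eq_neg_of_add_eq_zero_right h

include hξ in
theorem form_antipode (n : ℕ) (a : A) :
    form ξ n (HopfAlgebraStruct.antipode (R := k) a) = (-1) ^ n * form ξ n a := by
  induction n generalizing a with
  | zero => rw [form_zero, HopfAlgebra.counit_antipode, pow_zero, one_mul]
  | succ n ih =>
    have h1 : form ξ (n + 1) (HopfAlgebraStruct.antipode (R := k) a) = LinearMap.mul' k k (TensorProduct.map
        (form ξ 1) (form ξ n) (comul (R := k) (HopfAlgebraStruct.antipode (R := k) a))) := by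
      rw [add_comm n 1, form_add]; rfl
    have h2 : form ξ (n + 1) a = LinearMap.mul' k k (TensorProduct.map (form ξ n) (form ξ 1) (comul (R := k) a)) := by
      rw [form_add]; rfl
    rw [h1, h2, Hopf35.comul_antipode]
    generalize comul (R := k) a = z
    induction z with
    | zero => simp
    | add p q hp hq => simp only [map_add, hp, hq, mul_add]
    | tmul p q =>
      simp only [TensorProduct.map_tmul, TensorProduct.comm_tmul, LinearMap.mul'_apply, form_one,
        ptDer_antipode hξ, ih]
      ring

/-- the ideal of the subgroup generated by `ξ` -/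
def ideal : Ideal A where
  carrier := {a | ∀ n, form ξ n a = 0}
  zero_mem' := fun n => map_zero _
  add_mem' := fun {a b} ha hb n => by rw [map_add, ha n, hb n, add_zero]
  smul_mem' := fun b a ha n => by
    show counit (R := k) ((Loc.op k ξ ^ n : Module.End k A) (b * a)) = 0
    induction n generalizing a b with
    | zero =>
      have h0 : counit (R := k) a = 0 := ha 0
      rw [pow_zero, Module.End.one_apply, Bialgebra.counit_mul, h0, mul_zero]
    | succ n ih =>
      rw [pow_succ, Module.End.mul_apply, Loc.op_leibniz hξ, map_add, map_add, ih b (Loc.op k ξ a) (fun m => ?_),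
        mul_comm a, ih _ a ha, add_zero]
      have h := ha (m + 1)
      show counit (R := k) ((Loc.op k ξ ^ m : Module.End k A) (Loc.op k ξ a)) = 0
      rw [← Module.End.mul_apply, ← pow_succ]
      exact h

theorem mem_ideal {a : A} : a ∈ ideal hξ ↔ ∀ n, form ξ n a = 0 := Iff.rfl

theorem isHopfIdeal [Module.Finite k A] : (ideal hξ).IsHopfIdeal k := by
  refine { counit_eq_zero := ?_, map_mkQ_comul_eq_zero := ?_, antipode_mem := ?_ }
  · intro x hx
    exact hx 0
  · intro x hx
    have hspan : ∀ φ : (A ⧸ (ideal hξ).restrictScalars k) →ₗ[k] k,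
        φ ∘ₗ ((ideal hξ).restrictScalars k).mkQ ∈ Submodule.span k (Set.range (form ξ)) := fun φ =>
      FiniteDimensional.mem_span_of_iInf_ker_le_ker fun a ha => by
        simp only [Submodule.mem_iInf, LinearMap.mem_ker] at ha
        rw [LinearMap.mem_ker, LinearMap.comp_apply,
          show ((ideal hξ).restrictScalars k).mkQ a = 0 from (Submodule.Quotient.mk_eq_zero _).2 ha, map_zero]
    refine Hopf34.ext_dualPair fun φ ψ => ?_
    rw [map_zero, map_zero, ← LinearMap.comp_apply (TensorProduct.map φ ψ), ← TensorProduct.map_comp]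
    have key : ∀ f ∈ Submodule.span k (Set.range (form ξ)), ∀ g ∈ Submodule.span k (Set.range (form ξ)),
        LinearMap.mul' k k (TensorProduct.map f g (comul (R := k) x)) = 0 := by
      intro f hf g hg
      induction hf using Submodule.span_induction with
      | mem f hf =>
        obtain ⟨i, rfl⟩ := hf
        induction hg using Submodule.span_induction with
        | mem g hg =>
          obtain ⟨j, rfl⟩ := hg
          have := hx (i + j)
          rwa [form_add] at this
        | zero => simp
        | add a b _ _ ha hb => simp [TensorProduct.map_add_right, ha, hb]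
        | smul c a _ ha => simp [TensorProduct.map_smul_right, ha]
      | zero => simp
      | add a b _ _ ha hb => simp [TensorProduct.map_add_left, ha, hb]
      | smul c a _ ha => simp [TensorProduct.map_smul_left, ha]
    exact key _ (hspan φ) _ (hspan ψ)
  · intro x hx n
    rw [form_antipode hξ, hx n, mul_zero]

variable {p : ℕ} [hp : Fact p.Prime] {c : k}

include hp in
theorem form_eq_zero_of_lt (hc : Loc.op k ξ ^ p = c • Loc.op k ξ) {a : A} (ha : ∀ i < p, form ξ i a = 0)
    (n : ℕ) : form ξ n a = 0 := by
  induction n using Nat.strong_induction_on with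
  | _ n ih =>
    rcases Nat.lt_or_ge n p with h | h
    · exact ha n h
    · have hp1 := hp.out.one_lt
      have e : Loc.op k ξ ^ n = c • Loc.op k ξ ^ (n - p + 1) := by
        conv_lhs => rw [← Nat.sub_add_cancel h, pow_add, hc, mul_smul_comm, ← pow_succ]
      show counit (R := k) ((Loc.op k ξ ^ n : Module.End k A) a) = 0
      rw [e, LinearMap.smul_apply, map_smul]
      have := ih (n - p + 1) (by omega)
      rw [show counit (R := k) ((Loc.op k ξ ^ (n - p + 1) : Module.End k A) a) = 0 from this, smul_zero]

include hp in
theorem finrank_quotient_le (hc : Loc.op k ξ ^ p = c • Loc.op k ξ) :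
    Module.finrank k (A ⧸ (ideal hξ).restrictScalars k) ≤ p := by
  let Φ : A →ₗ[k] (Fin p → k) := LinearMap.pi fun i => form ξ i
  have hker : (ideal hξ).restrictScalars k = LinearMap.ker Φ := by
    ext a
    rw [Submodule.restrictScalars_mem, LinearMap.mem_ker]
    exact ⟨fun h => funext fun i => h i, fun h n => form_eq_zero_of_lt hc (fun i hi => congrFun h ⟨i, hi⟩) n⟩
  rw [hker, Φ.quotKerEquivRange.finrank_eq]
  refine (Submodule.finrank_le _).trans ?_
  rw [Module.finrank_pi, Fintype.card_fin]

end Groth.Agent.FinHopf34.LieQuot
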