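import Groth.Prelude.Def_CartDual
import Mathlib.RingTheory.Idempotents
import Mathlib.RingTheory.LocalRing.Basic
import Mathlib.RingTheory.HopfAlgebra.Quotient

/-!
Invariants under the unit component of the Cartier dual and morphisms.
-/

universe u

open TensorProduct

noncomputable section

namespace Groth.Agent.FinHopf34.MultPart

variable {R : Type u} [CommRing R]

theorem mul_eq_of_idem {D : Type u} [CommRing D] [Algebra R D] [Nontrivial R] (ε : D →ₐ[R] R) {f x : D}
    (hf : IsIdempotentElem f) (hfε : ε f = 1) [IsLocalRing (D ⧸ Ideal.span ({1 - f} : Set D))]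
    (hx : IsIdempotentElem x) (hxε : ε x = 1) : f * x = f := by
  have key : ∀ z ∈ Ideal.span ({1 - f} : Set D), f * z = 0 := by
    intro z hz
    obtain ⟨c, rfl⟩ := Ideal.mem_span_singleton'.1 hz
    have hf1 : f * f = f := hf
    linear_combination (-c) * hf1
  have hker : ∀ z ∈ Ideal.span ({1 - f} : Set D), ε z = 0 := by
    intro z hz
    obtain ⟨c, rfl⟩ := Ideal.mem_span_singleton'.1 hz
    rw [map_mul, map_sub, map_one, hfε, sub_self, mul_zero]
  have hy := hx.map (Ideal.Quotient.mk (Ideal.span ({1 - f} : Set D)))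
  have h01 : Ideal.Quotient.mk (Ideal.span ({1 - f} : Set D)) x = 0 ∨ Ideal.Quotient.mk (Ideal.span ({1 - f} : Set D)) x = 1 := by
    rcases IsLocalRing.isUnit_or_isUnit_of_add_one (add_sub_cancel (Ideal.Quotient.mk (Ideal.span ({1 - f} : Set D)) x) 1) with h | h
    · exact Or.inr ((IsIdempotentElem.iff_eq_one_of_isUnit h).1 hy)
    · exact Or.inl (sub_eq_self.1 ((IsIdempotentElem.iff_eq_one_of_isUnit h).1 hy.one_sub))
  rcases h01 with h | h
  · exact absurd (hxε.symm.trans (hker _ (Ideal.Quotient.eq_zero_iff_mem.1 h))) one_ne_zero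
  · rw [← map_one (Ideal.Quotient.mk (Ideal.span ({1 - f} : Set D))), Ideal.Quotient.mk_eq_mk_iff_sub_mem] at h
    have := key _ h
    rwa [mul_sub, mul_one, sub_eq_zero] at this

/-- transport of invariance along a map of bialgebras compatible with the idempotents -/
theorem invariant_map {D D' : Type u} [CommRing D] [Bialgebra R D] [CommRing D'] [Bialgebra R D']
    (t : D →ₐc[R] D') (f : D) (f' : D') (hff : f' * t f = f') (x : D)
    (hx : LinearMap.lTensor D (LinearMap.mulLeft R f) (Coalgebra.comul (R := R) x) = x ⊗ₜ[R] f) :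
    LinearMap.lTensor D' (LinearMap.mulLeft R f') (Coalgebra.comul (R := R) (t x)) = t x ⊗ₜ[R] f' := by
  have key : ∀ z : D ⊗[R] D, LinearMap.lTensor D' (LinearMap.mulLeft R f') (TensorProduct.map t.toLinearMap t.toLinearMap z) =
      TensorProduct.map t.toLinearMap (LinearMap.mulLeft R f' ∘ₗ t.toLinearMap)
        (LinearMap.lTensor D (LinearMap.mulLeft R f) z) := by
    intro z
    induction z with
    | zero => simp
    | add p q hp hq => simp only [map_add, hp, hq]
    | tmul p q =>
      simp only [TensorProduct.map_tmul, LinearMap.lTensor_tmul, LinearMap.comp_apply, LinearMap.mulLeft_apply]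
      show t p ⊗ₜ[R] (f' * t q) = t p ⊗ₜ[R] (f' * t (f * q))
      rw [map_mul, ← mul_assoc, hff]
  rw [← CoalgHomClass.map_comp_comul_apply t x]
  refine (key _).trans ?_
  rw [hx, TensorProduct.map_tmul]
  exact congrArg (fun w => t x ⊗ₜ[R] w) hff

end Groth.Agent.FinHopf34.MultPart

namespace Groth.Agent.FinHopf34.MultPart

variable {R : Type u} [CommRing R]

/-- descend a bialgebra map to quotients by Hopf ideals -/
theorem exists_desc {A B : Type u} [CommRing A] [HopfAlgebra R A] [CommRing B] [HopfAlgebra R B] (ψ : B →ₐc[R] A)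
    (I : Ideal B) [I.IsHopfIdeal R] (J : Ideal A) [J.IsHopfIdeal R] (h : ∀ b ∈ I, ψ b ∈ J) :
    ∃ g : (B ⧸ I) →ₐc[R] (A ⧸ J), ∀ b, g (Ideal.Quotient.mk I b) = Ideal.Quotient.mk J (ψ b) := by
  let P : B →ₐc[R] A ⧸ J := (Bialgebra.Quotient.mkBialgHom (R := R) J).comp ψ
  let πI : B →ₐc[R] B ⧸ I := Bialgebra.Quotient.mkBialgHom (R := R) I
  let f : (B ⧸ I) →ₐ[R] (A ⧸ J) :=
    Ideal.Quotient.liftₐ I (P : B →ₐ[R] A ⧸ J) fun b hb => Ideal.Quotient.eq_zero_iff_mem.2 (h b hb)
  have hf : ∀ b, f (πI b) = P b := fun _ => rfl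
  refine ⟨BialgHom.ofAlgHom f ?_ ?_, fun _ => rfl⟩
  · refine AlgHom.ext fun x => ?_
    obtain ⟨b, rfl⟩ := Ideal.Quotient.mk_surjective x
    show Coalgebra.counit (R := R) (f (πI b)) = Coalgebra.counit (R := R) (πI b)
    rw [hf, CoalgHomClass.counit_comp_apply, CoalgHomClass.counit_comp_apply]
  · refine AlgHom.ext fun x => ?_
    obtain ⟨b, rfl⟩ := Ideal.Quotient.mk_surjective x
    show Algebra.TensorProduct.map f f (Coalgebra.comul (R := R) (πI b)) = Coalgebra.comul (R := R) (f (πI b))
    rw [hf, ← CoalgHomClass.map_comp_comul_apply P b, ← CoalgHomClass.map_comp_comul_apply πI b]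
    generalize Coalgebra.comul (R := R) b = z
    induction z with
    | zero => simp
    | add p q hp hq => simp only [map_add, hp, hq]
    | tmul p q => rfl

end Groth.Agent.FinHopf34.MultPart
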