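import Mathlib.RingTheory.MvPowerSeries.Trunc
import Mathlib.RingTheory.MvPowerSeries.Equiv
import Mathlib.RingTheory.AdicCompletion.RingHom
import Mathlib.RingTheory.MvPolynomial.Ideal
import Mathlib.RingTheory.DiscreteValuationRing.Basic

/-!
Power series over a complete ring: maps into complete algebras, division by perturbed powers of the variables.
-/

universe u v

open MvPowerSeries

noncomputable section

namespace Groth.Agent.FinHopf34.PSPresent

variable {R : Type u} [CommRing R] {n : ℕ}

/-- Evaluation of power series at elements of an ideal for which the target is complete. -/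
theorem exists_hom {B : Type v} [CommRing B] [Algebra R B] (J : Ideal B) [IsAdicComplete J B]
    (y : Fin n → B) (hy : ∀ i, y i ∈ J) :
    ∃ G : MvPowerSeries (Fin n) R →ₐ[R] B,
      ∀ p : MvPolynomial (Fin n) R, G (p : MvPowerSeries (Fin n) R) = MvPolynomial.aeval y p := by
  have hpow : ∀ N, ∀ p ∈ MvPolynomial.idealOfVars (Fin n) R ^ N, MvPolynomial.aeval y p ∈ J ^ N := fun N p hp => by
    have h1 : (MvPolynomial.idealOfVars (Fin n) R).map (MvPolynomial.aeval y) ≤ J := by
      rw [MvPolynomial.idealOfVars, Ideal.map_span, Ideal.span_le]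
      rintro _ ⟨_, ⟨i, rfl⟩, rfl⟩
      rw [SetLike.mem_coe, MvPolynomial.aeval_X]
      exact hy i
    have h2 := Ideal.mem_map_of_mem (MvPolynomial.aeval y) hp
    rw [Ideal.map_pow] at h2
    exact Ideal.pow_right_mono h1 N h2
  haveI : IsScalarTower R (MvPolynomial (Fin n) R) (MvPowerSeries (Fin n) R) :=
    IsScalarTower.of_algebraMap_eq fun l => by
      simp [MvPowerSeries.algebraMap_apply', MvPolynomial.algebraMap_apply, MvPowerSeries.algebraMap_apply,
        MvPolynomial.coe_C]
  let f : ∀ N : ℕ, MvPowerSeries (Fin n) R →ₐ[R] B ⧸ J ^ N := fun N =>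
    (Ideal.Quotient.liftₐ _ ((Ideal.Quotient.mkₐ R (J ^ N)).comp (MvPolynomial.aeval y)) fun p hp =>
      Ideal.Quotient.eq_zero_iff_mem.2 (hpow N p hp)).comp ((truncTotalAlgHom (Fin n) R N).restrictScalars R)
  have hf : ∀ N F, f N F = Ideal.Quotient.mk (J ^ N) (MvPolynomial.aeval y (truncTotal N F)) := fun N F => rfl
  have hcompat : ∀ {a b : ℕ} (h : a ≤ b),
      (Ideal.Quotient.factorₐ R (Ideal.pow_le_pow_right h)).comp (f b) = f a := fun {a b} h => by
    refine AlgHom.ext fun F => ?_
    show Ideal.Quotient.mk (J ^ a) (MvPolynomial.aeval y (truncTotal b F)) = _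
    rw [hf, Ideal.Quotient.eq, ← map_sub]
    refine hpow a _ ((MvPolynomial.mem_pow_idealOfVars_iff' _ _).2 fun d hd => ?_)
    rw [MvPolynomial.coeff_sub, coeff_truncTotal _ hd, coeff_truncTotal _ (hd.trans_le h), sub_self]
  refine ⟨IsAdicComplete.liftAlgHom J f hcompat, fun p => ?_⟩
  refine (IsHausdorff.eq_iff_smodEq (I := J)).2 fun N => ?_
  rw [smul_eq_mul, Ideal.mul_top, SModEq.sub_mem, ← Ideal.Quotient.eq, IsAdicComplete.mk_liftAlgHom, hf,
    Ideal.Quotient.eq, ← map_sub]
  refine hpow N _ ((MvPolynomial.mem_pow_idealOfVars_iff' _ _).2 fun d hd => ?_)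
  rw [MvPolynomial.coeff_sub, coeff_truncTotal _ hd, MvPolynomial.coeff_coe, sub_self]

variable (q : Fin n → ℕ)

/-- Exponents below `q` in every variable. -/
def box : Finset (Fin n →₀ ℕ) :=
  Finset.univ.image fun f : ∀ i, Fin (q i) => Finsupp.equivFunOnFinite.symm fun i => (f i : ℕ)

theorem mem_box {d : Fin n →₀ ℕ} : d ∈ box q ↔ ∀ i, d i < q i := by
  refine ⟨fun h i => ?_, fun h => Finset.mem_image.2 ⟨fun i => ⟨d i, h i⟩, Finset.mem_univ _, by ext i; simp⟩⟩
  obtain ⟨f, -, rfl⟩ := Finset.mem_image.1 h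
  simp

theorem card_box : (box q).card = ∏ i, q i := by
  rw [box, Finset.card_image_of_injective _ fun f g h => funext fun i => Fin.ext (by simpa using DFunLike.congr_fun h i)]
  simp

/-- The polynomial with the given coefficients in the box. -/
def boxPoly : ((Fin n →₀ ℕ) → R) →ₗ[R] MvPolynomial (Fin n) R where
  toFun c := ∑ d ∈ box q, MvPolynomial.monomial d (c d)
  map_add' a b := by simp [Finset.sum_add_distrib]
  map_smul' r a := by simp [Finset.smul_sum, MvPolynomial.smul_monomial]

theorem coeff_boxPoly (c : (Fin n →₀ ℕ) → R) (d : Fin n →₀ ℕ) :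
    MvPolynomial.coeff d (boxPoly q c) = if d ∈ box q then c d else 0 := by
  classical
  simp [boxPoly, MvPolynomial.coeff_sum, MvPolynomial.coeff_monomial]

theorem mem_box_of_mem_support {c : (Fin n →₀ ℕ) → R} {d : Fin n →₀ ℕ} (h : d ∈ (boxPoly q c).support) :
    d ∈ box q := by
  by_contra hd
  rw [MvPolynomial.mem_support_iff, coeff_boxPoly, if_neg hd] at h
  exact h rfl

/-- Division by the powers of the variables, exactly. -/
theorem exists_div (F : MvPowerSeries (Fin n) R) :
    ∃ (c : (Fin n →₀ ℕ) → R) (h : Fin n → MvPowerSeries (Fin n) R),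
      F = (boxPoly q c : MvPowerSeries (Fin n) R) + ∑ i, X i ^ q i * h i := by
  classical
  let σ : (Fin n →₀ ℕ) → Option (Fin n) := fun d => if h : ∃ i, q i ≤ d i then some h.choose else none
  let H : Fin n → MvPowerSeries (Fin n) R := fun i e =>
    if σ (e + Finsupp.single i (q i)) = some i then coeff (e + Finsupp.single i (q i)) F else 0
  have hH : ∀ i e, coeff e (H i) =
      if σ (e + Finsupp.single i (q i)) = some i then coeff (e + Finsupp.single i (q i)) F else 0 := fun i e => rfl
  refine ⟨fun d => coeff d F, H, MvPowerSeries.ext fun d => ?_⟩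
  rw [map_add, MvPolynomial.coeff_coe, coeff_boxPoly, map_sum]
  have key : ∀ i, coeff d (X i ^ q i * H i) = if σ d = some i then coeff d F else 0 := by
    intro i
    rw [X_pow_eq, coeff_monomial_mul]
    by_cases hle : Finsupp.single i (q i) ≤ d
    · rw [if_pos hle, one_mul, hH]
      simp only [tsub_add_cancel_of_le hle]
    · rw [if_neg hle, if_neg]
      intro hσ
      refine hle (Finsupp.single_le_iff.2 ?_)
      simp only [σ] at hσ
      split_ifs at hσ with h
      rw [← Option.some_injective _ hσ]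
      exact h.choose_spec
  rw [Finset.sum_congr rfl fun i _ => key i]
  by_cases hd : d ∈ box q
  · rw [if_pos hd, Finset.sum_eq_zero, add_zero]
    intro i _
    rw [if_neg]
    intro hσ
    simp only [σ] at hσ
    split_ifs at hσ with h
    exact absurd ((mem_box q).1 hd _) (not_lt.2 h.choose_spec)
  · rw [if_neg hd, zero_add]
    rw [mem_box] at hd
    push Not at hd
    have hσ : σ d = some hd.choose := dif_pos hd
    rw [hσ, Finset.sum_eq_single hd.choose (fun i _ hi => if_neg fun h => hi (Option.some_injective _ h).symm)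
      (fun h => absurd (Finset.mem_univ _) h), if_pos rfl]

/-- Division by powers perturbed by polynomials in the maximal ideal, over a complete ring. -/
theorem exists_div_perturbed (ϖ : R) [IsAdicComplete (Ideal.span {ϖ}) R]
    (l : Fin n → (Fin n →₀ ℕ) → R) (F : MvPowerSeries (Fin n) R) :
    ∃ c : (Fin n →₀ ℕ) → R, F - (boxPoly q c : MvPowerSeries (Fin n) R) ∈
      Ideal.span (Set.range fun i => X i ^ q i + ((boxPoly q (ϖ • l i) : MvPolynomial (Fin n) R) : MvPowerSeries (Fin n) R)) := by
  classical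
  choose c h hch using exists_div (R := R) q
  let P : Fin n → MvPowerSeries (Fin n) R := fun i => ((boxPoly q (l i) : MvPolynomial (Fin n) R) : MvPowerSeries (Fin n) R)
  let f : Fin n → MvPowerSeries (Fin n) R := fun i =>
    X i ^ q i + ((boxPoly q (ϖ • l i) : MvPolynomial (Fin n) R) : MvPowerSeries (Fin n) R)
  have hf : ∀ i, f i = X i ^ q i + C ϖ * P i := fun i => by
    show X i ^ q i + _ = _
    rw [map_smul, MvPolynomial.smul_eq_C_mul, MvPolynomial.coe_mul, MvPolynomial.coe_C]
  let next : MvPowerSeries (Fin n) R → MvPowerSeries (Fin n) R := fun G => -∑ i, h G i * P i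
  have hnext : ∀ G, G = (boxPoly q (c G) : MvPowerSeries (Fin n) R) + ∑ i, h G i * f i + C ϖ * next G := by
    intro G
    conv_lhs => rw [hch G]
    simp only [next, hf, mul_add, Finset.sum_add_distrib, mul_neg, Finset.mul_sum]
    rw [Finset.sum_congr rfl (fun i _ => mul_comm (X i ^ q i) (h G i)),
      Finset.sum_congr rfl (fun i _ => mul_left_comm (h G i) (C ϖ) (P i))]
    ring
  let G : ℕ → MvPowerSeries (Fin n) R := fun j => next^[j] F
  let cs : ℕ → (Fin n →₀ ℕ) → R := fun j => ∑ m ∈ Finset.range j, ϖ ^ m • c (G m)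
  let hs : ℕ → Fin n → MvPowerSeries (Fin n) R := fun j i => ∑ m ∈ Finset.range j, C (ϖ ^ m) * h (G m) i
  have hsum : ∀ j, F = (boxPoly q (cs j) : MvPowerSeries (Fin n) R) + ∑ i, hs j i * f i + C (ϖ ^ j) * G j := by
    intro j
    induction j with
    | zero => simp [cs, hs, G]
    | succ j ih =>
      conv_lhs => rw [ih, hnext (G j)]
      simp only [cs, hs, Finset.sum_range_succ, map_add, map_smul, MvPolynomial.coe_add, add_mul,
        Finset.sum_add_distrib, G, Function.iterate_succ_apply', MvPolynomial.smul_eq_C_mul, MvPolynomial.coe_mul,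
        MvPolynomial.coe_C, pow_succ, map_mul, mul_add, Finset.mul_sum, mul_assoc]
      abel
  have hcauchy : ∀ u : ℕ → R, (∀ j, ∃ r, u (j + 1) = u j + ϖ ^ j * r) →
      ∃ L, ∀ j, u j - L ∈ Ideal.span {ϖ} ^ j := by
    intro u hu
    have hc : ∀ {a b : ℕ}, a ≤ b → u a ≡ u b [SMOD (Ideal.span {ϖ} ^ a • ⊤ : Submodule R R)] := by
      intro a b hab
      rw [smul_eq_mul, Ideal.mul_top, SModEq.sub_mem]
      induction b, hab using Nat.le_induction with
      | base => simp
      | succ b hb ih =>
        obtain ⟨r, hr⟩ := hu b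
        rw [hr, show u a - (u b + ϖ ^ b * r) = (u a - u b) - ϖ ^ b * r by ring]
        exact Ideal.sub_mem _ ih (Ideal.pow_le_pow_right hb
          (Ideal.mul_mem_right _ _ (Ideal.pow_mem_pow (Ideal.mem_span_singleton_self ϖ) b)))
    obtain ⟨L, hL⟩ := IsPrecomplete.prec (inferInstance : IsPrecomplete (Ideal.span {ϖ}) R) hc
    exact ⟨L, fun j => by have := hL j; rwa [smul_eq_mul, Ideal.mul_top, SModEq.sub_mem] at this⟩
  choose cL hcL using fun d => hcauchy (fun j => cs j d) fun j =>
    ⟨c (G j) d, by simp [cs, Finset.sum_range_succ]⟩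
  choose hL hhL using fun (i : Fin n) (d : Fin n →₀ ℕ) => hcauchy (fun j => coeff d (hs j i)) fun j =>
    ⟨coeff d (h (G j) i), by simp only [hs, Finset.sum_range_succ, map_add, coeff_C_mul]⟩
  let HL : Fin n → MvPowerSeries (Fin n) R := hL
  refine ⟨cL, ?_⟩
  have hfin : F - (boxPoly q cL : MvPowerSeries (Fin n) R) = ∑ i, HL i * f i := by
    refine MvPowerSeries.ext fun d => (IsHausdorff.eq_iff_smodEq (I := Ideal.span {ϖ})).2 fun j => ?_
    rw [smul_eq_mul, Ideal.mul_top, SModEq.sub_mem, ← Ideal.Quotient.eq]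
    let π := Ideal.Quotient.mk (Ideal.span {ϖ} ^ j)
    have e1 : MvPowerSeries.map π (boxPoly q (cs j) : MvPowerSeries (Fin n) R) =
        MvPowerSeries.map π (boxPoly q cL : MvPowerSeries (Fin n) R) := MvPowerSeries.ext fun d => by
      rw [coeff_map, coeff_map, MvPolynomial.coeff_coe, MvPolynomial.coeff_coe, coeff_boxPoly, coeff_boxPoly]
      split_ifs
      · exact Ideal.Quotient.eq.2 (hcL d j)
      · rfl
    have e2 : ∀ i, MvPowerSeries.map π (hs j i) = MvPowerSeries.map π (HL i) := fun i =>
      MvPowerSeries.ext fun d => by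
        rw [coeff_map, coeff_map]
        exact Ideal.Quotient.eq.2 (hhL i d j)
    have e3 : π (ϖ ^ j) = 0 :=
      Ideal.Quotient.eq_zero_iff_mem.2 (Ideal.pow_mem_pow (Ideal.mem_span_singleton_self ϖ) j)
    have h1 := congrArg (MvPowerSeries.map π) (hsum j)
    simp only [map_add, map_mul, map_sum, map_C, e1, e2, e3, map_zero, zero_mul, add_zero] at h1
    show π (coeff d _) = π (coeff d _)
    rw [← coeff_map, ← coeff_map, map_sub, h1, map_sum, add_sub_cancel_left]
    simp only [map_mul]
  rw [hfin]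
  exact Ideal.sum_mem _ fun i _ => Ideal.mul_mem_left _ _ (Ideal.subset_span ⟨i, rfl⟩)

end Groth.Agent.FinHopf34.PSPresent
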