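import Mathlib.RingTheory.Spectrum.Prime.FreeLocus
import Mathlib.RingTheory.LocalRing.Module

/-!
Finite flat modules of constant rank over semilocal rings are free.
-/

universe u v

open TensorProduct

namespace Groth.Agent.FinHopf34

theorem free_of_rankAtStalk_eq {R : Type u} [CommRing R] [Finite (MaximalSpectrum R)] {M : Type v}
    [AddCommGroup M] [Module R M] [Module.Finite R M] [Module.Flat R M] (n : ℕ)
    (h : ∀ p : PrimeSpectrum R, Module.rankAtStalk M p = n) :
    Module.Free R M ∧ (Nontrivial R → Module.finrank R M = n) := by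
  have hfree : Module.Free R M := by
    refine Module.free_of_flat_of_finrank_eq R M n fun P => ?_
    have := P.isMaximal
    letI : Field (R ⧸ P.asIdeal) := Ideal.Quotient.field P.asIdeal
    let q : PrimeSpectrum (R ⧸ P.asIdeal) := ⟨⊥, Ideal.isPrime_bot⟩
    refine Eq.trans ?_ ((Module.rankAtStalk_baseChange (S := R ⧸ P.asIdeal) (M := M) q).trans (h _))
    exact (congrFun (Module.rankAtStalk_eq_finrank_of_free (R := R ⧸ P.asIdeal) (M := (R ⧸ P.asIdeal) ⊗[R] M)) q).symm
  refine ⟨hfree, fun _ => ?_⟩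
  obtain ⟨p⟩ : Nonempty (PrimeSpectrum R) := inferInstance
  rw [← h p, Module.rankAtStalk_eq_finrank_of_free]
  rfl

theorem nonempty_basis_of_rankAtStalk_eq {R : Type u} [CommRing R] [Finite (MaximalSpectrum R)] {M : Type v}
    [AddCommGroup M] [Module R M] [Module.Finite R M] [Module.Flat R M] (n : ℕ)
    (h : ∀ p : PrimeSpectrum R, Module.rankAtStalk M p = n) : Nonempty (Module.Basis (Fin n) R M) := by
  refine Module.nonempty_basis_of_flat_of_finrank_eq R M n fun P => ?_
  have := P.isMaximal
  letI : Field (R ⧸ P.asIdeal) := Ideal.Quotient.field P.asIdeal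
  let q : PrimeSpectrum (R ⧸ P.asIdeal) := ⟨⊥, Ideal.isPrime_bot⟩
  refine Eq.trans ?_ ((Module.rankAtStalk_baseChange (S := R ⧸ P.asIdeal) (M := M) q).trans (h _))
  exact (congrFun (Module.rankAtStalk_eq_finrank_of_free (R := R ⧸ P.asIdeal) (M := (R ⧸ P.asIdeal) ⊗[R] M)) q).symm

end Groth.Agent.FinHopf34
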